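import Groth.Agent.H82.RankOne2.Setup
import Groth.Agent.Lib.GrpSch.Translate
import Groth.Agent.Lib.GrpSch.BaseChange
import Groth.Agent.Lib.WittU.Geom
import Groth.Agent.H87.HomDS
import Mathlib.AlgebraicGeometry.AffineSpace

/-!
# The fibres: open subgroups, tori into `𝔾ₐ`, geometry of `𝔾ₐ`
-/

set_option autoImplicit false
set_option linter.style.haveILetI false
set_option linter.unusedSectionVars false
universe u

open CategoryTheory MonoidalCategory CartesianMonoidalCategory MonObj GrpObj AlgebraicGeometry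
open Groth.Agent.Lib.RedPts Groth.Agent.Lib.GrpSch Groth.Agent.Lib.Tori.BaseChange
open Groth.Agent.H82.RankOne (P P_eq P_add P_zero P_neg P_comp)

namespace Groth.Agent.H82.BigCell

/-- An open subset of a connected group over an algebraically closed field whose rational points form a
subgroup is everything. -/
theorem open_subgroup_eq_top {k : Type u} [Field k] [IsAlgClosed k]
    {G : Over (Spec (CommRingCat.of k))} [GrpObj G] [LocallyOfFiniteType G.hom] [ConnectedSpace G.left]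
    (U : G.left.Opens)
    (h1 : ∀ s, (1 : 𝟙_ (Over (Spec (CommRingCat.of k))) ⟶ G).left s ∈ U)
    (hdiv : ∀ g h : 𝟙_ (Over (Spec (CommRingCat.of k))) ⟶ G,
      (∀ s, g.left s ∈ U) → (∀ s, h.left s ∈ U) → ∀ s, (g * h⁻¹).left s ∈ U) :
    U = ⊤ := by
  haveI : JacobsonSpace G.left := LocallyOfFiniteType.jacobsonSpace G.hom
  let C : Set G.left := (U : Set G.left)ᶜ
  have hCc : IsClosed C := U.isOpen.isClosed_compl
  have key : ∀ c ∈ C, c ∈ closedPoints G.left → c ∈ interior C := by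
    intro c hc hcl
    let pc : 𝟙_ (Over (Spec (CommRingCat.of k))) ⟶ G :=
      Over.homMk (pointOfClosedPoint G.hom c hcl) (pointOfClosedPoint_comp G.hom c hcl)
    have epc : ∀ s, pc.left s = c := fun s => pointOfClosedPoint_apply G.hom c hcl s
    obtain ⟨s₀⟩ : Nonempty ↥(Spec (CommRingCat.of k)) := inferInstance
    let tr := (translate (regularAction G) pc⁻¹).hom
    refine mem_interior.2 ⟨tr.left ⁻¹' U, fun x hx hxU => ?_, U.isOpen.preimage tr.left.continuous, ?_⟩
    · obtain ⟨v, ⟨hv1, hv2⟩, hvc⟩ := nonempty_inter_closedPoints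
        (X := G.left) (Z := tr.left ⁻¹' U ∩ (U : Set G.left)) ⟨x, hx, hxU⟩
        ((U.isOpen.preimage tr.left.continuous).inter U.isOpen).isLocallyClosed
      let pv : 𝟙_ (Over (Spec (CommRingCat.of k))) ⟶ G :=
        Over.homMk (pointOfClosedPoint G.hom v hvc) (pointOfClosedPoint_comp G.hom v hvc)
      have epv : ∀ s, pv.left s = v := fun s => pointOfClosedPoint_apply G.hom v hvc s
      have e : pv ≫ tr = pc⁻¹ * pv := translate_regular_apply _ _
      have h2 : ∀ s, (pc⁻¹ * pv).left s ∈ U := fun s => by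
        rw [← e, Over.comp_left, Scheme.Hom.comp_apply, epv]; exact hv1
      have h3 := hdiv pv (pc⁻¹ * pv) (fun s => by rw [epv]; exact hv2) h2 s₀
      rw [_root_.mul_inv_rev, _root_.inv_inv, mul_inv_cancel_left, epc] at h3
      exact hc h3
    · have e : pc ≫ tr = 1 := by rw [translate_regular_apply, inv_mul_cancel]
      change tr.left c ∈ U
      rw [← epc s₀, ← Scheme.Hom.comp_apply, ← Over.comp_left, e]
      exact h1 s₀
  have hopen : IsOpen C := by
    rw [← subset_interior_iff_isOpen]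
    by_contra hne
    obtain ⟨x, hxC, hxi⟩ := Set.not_subset.1 hne
    obtain ⟨c, ⟨hcC, hci⟩, hcl⟩ := nonempty_inter_closedPoints (X := G.left) (Z := C ∩ (interior C)ᶜ)
      ⟨x, hxC, hxi⟩ (hCc.inter isOpen_interior.isClosed_compl).isLocallyClosed
    exact hci (key c hcC hcl)
  obtain ⟨s₀⟩ : Nonempty ↥(Spec (CommRingCat.of k)) := inferInstance
  rcases isClopen_iff.1 (⟨hCc, hopen⟩ : IsClopen C) with h | h
  · exact TopologicalSpace.Opens.ext (Set.compl_empty_iff.1 h)
  · exact absurd (h1 s₀) ((Set.ext_iff.1 h _).2 trivial)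

/-- A homomorphism from a torus over a field to the additive group is trivial. -/
theorem torus_hom_Ga_eq_one {K : Type u} [Field K] (T' : Over (Spec (CommRingCat.of K))) [GrpObj T']
    (hT : Red.IsTorus T') (v : T' ⟶ Red.Ga (Spec (CommRingCat.of K))) [IsMonHom v] : v = 1 := by
  obtain ⟨S', f, -, hs, -, hloc⟩ := hT
  obtain ⟨p⟩ : Nonempty ↥(Spec (CommRingCat.of K)) := inferInstance
  obtain ⟨s', -⟩ := f.surjective p
  obtain ⟨U, hU, r, ⟨e⟩⟩ := hloc s'
  let g₀ : (U : Scheme.{u}) ⟶ Spec (CommRingCat.of K) := U.ι ≫ f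
  let U₁ : Over (U : Scheme.{u}) := Red.DS (U : Scheme.{u}) (Fin r → ℤ)
  let a : (Over.map g₀).obj U₁ ⟶ T' := BC.down g₀ (overIso e).inv
  let w : (Over.map g₀).obj U₁ ⟶ Red.Ga (Spec (CommRingCat.of K)) := a ≫ v
  let b := Red.gaFn w
  let v₁ : U₁ ⟶ Red.Ga (U : Scheme.{u}) := Ga.gaPt (X := U₁) b
  have hv₁ : ∀ {X : Over (U : Scheme.{u})} (x : X ⟶ U₁),
      Red.gaFn (x ≫ v₁) = Red.gaFn ((Over.map g₀).map x ≫ a ≫ v) := fun {X} x => by
    simp only [v₁, b, w]
    rw [Ga.gaFn_comp, Ga.gaFn_gaPt, Ga.gaFn_comp ((Over.map g₀).map x)]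
    rfl
  have : IsMonHom (overIso e).inv := e.inv.hom.isMonHom_hom
  haveI : IsMonHom v₁ := Groth.Agent.H87.HomDS.isMonHom_of_points v₁ fun X x y => Ga.gaFn_injective (by
    have h1 : (Over.map g₀).map (x * y) ≫ a = ((Over.map g₀).map x ≫ a) * ((Over.map g₀).map y ≫ a) := by
      simp only [a, ← BC.down_comp, ← BC.down_mul]
      rw [MonObj.mul_comp x y (overIso e).inv]
    rw [Ga.gaFn_mul, hv₁, hv₁, hv₁, ← Category.assoc, h1, MonObj.mul_comp _ _ v, Category.assoc, Category.assoc]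
    exact Ga.gaFn_mul (S := Spec (CommRingCat.of K)) _ _)
  let q : (U : Scheme.{u}) := ⟨s', hU⟩
  let L : CommRingCat.{u} := (U : Scheme.{u}).residueField q
  let t : Spec L ⟶ (U : Scheme.{u}) := (U : Scheme.{u}).fromSpecResidueField q
  have hk := Groth.Agent.H87.HomDS.kills_of_univ t (Fin r → ℤ) v₁
    (Groth.Agent.H87.HomDS.ga_eq_one t v₁)
  -- descend along the field extension
  let g : Spec L ⟶ Spec (CommRingCat.of K) := t ≫ g₀
  haveI : Flat g := by
    obtain ⟨ψ, hψ⟩ := Spec.map_surjective g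
    rw [← hψ, HasRingHomProperty.Spec_iff (P := @Flat)]
    letI : Field L := inferInstanceAs (Field ((U : Scheme.{u}).residueField q))
    letI := ψ.hom.toAlgebra
    change (algebraMap K L).Flat
    rw [RingHom.flat_algebraMap_iff]
    infer_instance
  haveI : Surjective g := ⟨Function.surjective_to_subsingleton (β := ↥(Spec (CommRingCat.of K))) _⟩
  let W := Limits.pullback T'.hom g
  let Wo : Over (Spec (CommRingCat.of K)) := Over.mk (Limits.pullback.fst T'.hom g ≫ T'.hom)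
  let c : Wo ⟶ T' := Over.homMk (Limits.pullback.fst T'.hom g) rfl
  haveI : Flat (Limits.pullback.fst T'.hom g) :=
    MorphismProperty.pullback_fst (P := @Flat) _ _ inferInstance
  haveI : Surjective (Limits.pullback.fst T'.hom g) :=
    MorphismProperty.pullback_fst (P := @Surjective) _ _ inferInstance
  have hc : Epi c.left := Flat.epi_of_flat_of_surjective (Limits.pullback.fst T'.hom g)
  refine RankOne.eq_of_epi hc ?_
  rw [MonObj.comp_one]
  let X1 : Over (U : Scheme.{u}) := Over.mk (Limits.pullback.snd T'.hom g ≫ t)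
  let iso1 : (Over.map g₀).obj X1 ≅ Wo := Over.isoMk (Iso.refl _) ((Category.id_comp _).trans (by
    change Limits.pullback.fst T'.hom g ≫ T'.hom = (Limits.pullback.snd T'.hom g ≫ t) ≫ g₀
    rw [Category.assoc, Limits.pullback.condition]))
  let γ : X1 ⟶ U₁ := BC.up g₀ (iso1.hom ≫ c) ≫ (overIso e).hom
  have h0 := hk X1 (Over.homMk (Limits.pullback.snd T'.hom g) rfl) γ
  have h1 : (Over.map g₀).map γ ≫ a = iso1.hom ≫ c := by
    simp only [a, γ, ← BC.down_comp, Category.assoc, Iso.hom_inv_id, Category.comp_id, BC.down_up]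
  have h2 := congrArg Red.gaFn h0
  rw [hv₁, Ga.gaFn_one, ← Category.assoc, h1, Category.assoc, ← Ga.gaFn_one] at h2
  have h3 : Red.gaFn (iso1.hom ≫ c ≫ v) = Red.gaFn (1 : (Over.map g₀).obj X1 ⟶ Red.Ga _) :=
    h2.trans ((Ga.gaFn_one (X := X1)).trans (Ga.gaFn_one (X := (Over.map g₀).obj X1)).symm)
  rw [← cancel_epi iso1.hom, MonObj.comp_one]
  exact Ga.gaFn_injective h3

/-! ### Geometry of `𝔾ₐ` -/

/-- `𝔾ₐ` is the affine line. -/
noncomputable def gaIso (S : Scheme.{u}) :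
    Red.Ga S ≅ Over.mk (𝔸(PUnit.{u + 1}; S) ↘ S) where
  hom := Over.homMk (AffineSpace.homOfVector (Red.Ga S).hom (fun _ => Red.gaFn (𝟙 (Red.Ga S))))
    (AffineSpace.homOfVector_over _ _)
  inv := Ga.gaPt (X := Over.mk (𝔸(PUnit.{u + 1}; S) ↘ S)) (AffineSpace.coord S (PUnit.unit : PUnit.{u + 1}))
  hom_inv_id := by
    apply Ga.gaFn_injective
    rw [Ga.gaFn_comp, Ga.gaFn_gaPt]
    exact AffineSpace.homOfVector_appTop_coord _ _ _
  inv_hom_id := by
    apply Over.OverMorphism.ext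
    refine AffineSpace.hom_ext (Over.w _) fun i => ?_
    rw [Over.comp_left, Scheme.Hom.comp_appTop, CommRingCat.comp_apply]
    erw [AffineSpace.homOfVector_appTop_coord]
    rw [← Ga.gaFn_comp, Category.comp_id]
    exact Ga.gaFn_gaPt _

theorem smooth_Ga (S : Scheme.{u}) : Smooth (Red.Ga S).hom := by
  haveI : Smooth (Over.mk (𝔸(PUnit.{u + 1}; S) ↘ S)).hom := Groth.Agent.Lib.WittU.Geom.smooth_affineSpace _ S
  haveI : IsIso (gaIso S).hom.left := ((Over.forget _).mapIso (gaIso S)).isIso_hom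
  rw [← Over.w (gaIso S).hom]
  infer_instance

theorem connected_Ga (K : Type u) [Field K] : ConnectedSpace ↥(Red.Ga (Spec (CommRingCat.of K))).left := by
  haveI : IsIso (gaIso (Spec (CommRingCat.of K))).inv.left := ((Over.forget _).mapIso (gaIso _)).isIso_inv
  have h : Surjective (gaIso (Spec (CommRingCat.of K))).inv.left := inferInstance
  haveI : IrreducibleSpace ↥(Over.mk (𝔸(PUnit.{u + 1}; Spec (CommRingCat.of K)) ↘ Spec (CommRingCat.of K))).left :=
    (inferInstance : IrreducibleSpace ↥(𝔸(PUnit.{u + 1}; Spec (CommRingCat.of K))))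
  exact h.surj.connectedSpace (Scheme.Hom.continuous _)

section Commuting

variable {S : Scheme.{u}} {G T : Over S} [GrpObj G] [GrpObj T]
  {i : T ⟶ G} {α : T ⟶ Red.Gm S} {pp pm : Red.Ga S ⟶ G}
  [IsMonHom i] [IsMonHom α] [IsMonHom pp] [IsMonHom pm] (H : Hyp i α pp pm)
include H

theorem Hyp.cell_mul {X : Over S} (hcomm : ∀ x y : Γ(X.left, ⊤), P pp x * P pm y = P pm y * P pp x)
    {f f' : X ⟶ G} {A C A' C' : Γ(X.left, ⊤)} {B B' : X ⟶ T}
    (h : Cell i pp pm f A B C) (h' : Cell i pp pm f' A' B' C') :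
    Cell i pp pm (f * f') (A + Red.gmFn (B ≫ α⁻¹) * A') (B * B') (Red.gmFn (B' ≫ α⁻¹) * C + C') := by
  rw [Cell] at h h' ⊢
  rw [h, h']
  calc P pm A * (B ≫ i) * P pp C * (P pm A' * (B' ≫ i) * P pp C')
      = P pm A * (B ≫ i) * (P pp C * P pm A') * (B' ≫ i) * P pp C' := by simp only [_root_.mul_assoc]
    _ = P pm A * ((B ≫ i) * P pm A') * (P pp C * (B' ≫ i)) * P pp C' := by
        rw [hcomm]; simp only [_root_.mul_assoc]
    _ = _ := by
        rw [H.conjM, H.P_mul_B, P_add, P_add, MonObj.mul_comp]; simp only [_root_.mul_assoc]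

theorem Hyp.cell_inv {X : Over S} (hcomm : ∀ x y : Γ(X.left, ⊤), P pp x * P pm y = P pm y * P pp x)
    {f : X ⟶ G} {A C : Γ(X.left, ⊤)} {B : X ⟶ T} (h : Cell i pp pm f A B C) :
    ∃ A' B' C', Cell i pp pm f⁻¹ A' B' C' := by
  have h1 : Cell i pp pm (P pp (-C)) 0 1 (-C) := by simp [Cell, P_zero, MonObj.one_comp]
  have h2 : Cell i pp pm (B⁻¹ ≫ i) 0 B⁻¹ 0 := by simp [Cell, P_zero]
  have h3 : Cell i pp pm (P pm (-A)) (-A) 1 0 := by simp [Cell, P_zero, MonObj.one_comp]
  have : f⁻¹ = P pp (-C) * (B⁻¹ ≫ i) * P pm (-A) := by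
    rw [show f = _ from h, _root_.mul_inv_rev, _root_.mul_inv_rev, P_neg, P_neg, GrpObj.inv_comp B i]
    simp only [_root_.mul_assoc]
  rw [this]
  exact ⟨_, _, _, H.cell_mul hcomm (H.cell_mul hcomm h1 h2) h3⟩

theorem Hyp.cell_conj_pp {X : Over S} (hcomm : ∀ x y : Γ(X.left, ⊤), P pp x * P pm y = P pm y * P pp x)
    {f : X ⟶ G} {A C : Γ(X.left, ⊤)} {B : X ⟶ T} (h : Cell i pp pm f A B C) (x : Γ(X.left, ⊤)) :
    f * P pp x * f⁻¹ = P pp (Red.gmFn (B ≫ α) * x) := by
  rw [show f = _ from h, _root_.mul_inv_rev, _root_.mul_inv_rev]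
  have e : P pp C * P pp x * (P pp C)⁻¹ = P pp x := by
    rw [← P_add, ← P_neg, ← P_add, add_comm C, add_neg_cancel_right]
  calc P pm A * (B ≫ i) * P pp C * P pp x * ((P pp C)⁻¹ * ((B ≫ i)⁻¹ * (P pm A)⁻¹))
      = P pm A * ((B ≫ i) * (P pp C * P pp x * (P pp C)⁻¹)) * (B ≫ i)⁻¹ * (P pm A)⁻¹ := by
        simp only [_root_.mul_assoc]
    _ = P pm A * P pp (Red.gmFn (B ≫ α) * x) * (P pm A)⁻¹ := by
        rw [e, H.conjP, ← _root_.mul_assoc, mul_inv_cancel_right]
    _ = _ := by rw [← hcomm, mul_inv_cancel_right]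

end Commuting

end Groth.Agent.H82.BigCell
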