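import Groth.Agent.H82.RankOne2.Fibre

/-!
# Bruhat decomposition and generation by the big cell in rank one
-/

set_option autoImplicit false
set_option linter.style.haveILetI false
set_option linter.unusedSectionVars false
universe u

open CategoryTheory MonoidalCategory CartesianMonoidalCategory MonObj GrpObj AlgebraicGeometry
open Groth.Agent.Lib.RedPts Groth.Agent.Lib.GrpSch
open Groth.Agent.H82.RankOne (P P_eq P_add P_zero P_neg P_comp gmPt_eq Sys)

namespace Groth.Agent.H82.BigCell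

variable {S : Scheme.{u}} {G T : Over S} [GrpObj G] [GrpObj T]
  {i : T ⟶ G} {α : T ⟶ Red.Gm S} {pp pm : Red.Ga S ⟶ G} {av : Red.Gm S ⟶ T}
  [IsMonHom i] [IsMonHom α] [IsMonHom pp] [IsMonHom pm]

/-- `pp(1) pm(-1) pp(1)`. -/
noncomputable abbrev w₀ (pp pm : Red.Ga S ⟶ G) (X : Over S) : X ⟶ G :=
  Sys.W pp pm (1 : Γ(X.left, ⊤)ˣ)

theorem w₀_comp {X X' : Over S} (c : X' ⟶ X) : c ≫ w₀ pp pm X = w₀ pp pm X' := by
  rw [w₀, Sys.W_comp, map_one]

/-- In the big cell or in the other Bruhat cell. -/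
def InBruhat (i : T ⟶ G) (pp pm : Red.Ga S ⟶ G) {X : Over S} (f : X ⟶ G) : Prop :=
  (∃ A B C, Cell i pp pm f A B C) ∨ ∃ (t : X ⟶ T) (C : Γ(X.left, ⊤)), f = w₀ pp pm X * (t ≫ i) * P pp C

/-- The elements preserving the union of the two Bruhat cells. -/
def bruhatStab (i : T ⟶ G) (pp pm : Red.Ga S ⟶ G) (X : Over S) : Subgroup (X ⟶ G) where
  carrier := {g | ∀ f, InBruhat i pp pm (g * f) ↔ InBruhat i pp pm f}
  mul_mem' {a b} ha hb f := by rw [_root_.mul_assoc, ha, hb]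
  one_mem' f := by rw [_root_.one_mul]
  inv_mem' {a} ha f := by rw [← ha (a⁻¹ * f), mul_inv_cancel_left]

namespace Hyp

variable (H : Hyp i α pp pm)
include H

/-- Moving a torus point and an element of the root group past a cell element. -/
theorem cell_mul_right {X : Over S} {f : X ⟶ G} {A C : Γ(X.left, ⊤)} {B : X ⟶ T}
    (h : Cell i pp pm f A B C) (t : X ⟶ T) (x : Γ(X.left, ⊤)) :
    Cell i pp pm (f * (t ≫ i) * P pp x) A (B * t) (Red.gmFn (t ≫ α⁻¹) * C + x) := by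
  rw [Cell] at h ⊢
  rw [h, _root_.mul_assoc (P pm A * (B ≫ i)), H.P_mul_B, P_add, MonObj.mul_comp]
  simp only [_root_.mul_assoc]

theorem cell_left_pm {X : Over S} {f : X ⟶ G} {A C : Γ(X.left, ⊤)} {B : X ⟶ T}
    (h : Cell i pp pm f A B C) (y : Γ(X.left, ⊤)) : Cell i pp pm (P pm y * f) (y + A) B C := by
  rw [Cell] at h ⊢
  rw [h, P_add]
  simp only [_root_.mul_assoc]

theorem cell_left_T {X : Over S} {f : X ⟶ G} {A C : Γ(X.left, ⊤)} {B : X ⟶ T}
    (h : Cell i pp pm f A B C) (t : X ⟶ T) :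
    Cell i pp pm ((t ≫ i) * f) (Red.gmFn (t ≫ α⁻¹) * A) (t * B) C := by
  rw [Cell] at h ⊢
  rw [h, ← _root_.mul_assoc, ← _root_.mul_assoc, H.conjM, MonObj.mul_comp]
  simp only [_root_.mul_assoc]

theorem cell_pt {X : Over S} (A : Γ(X.left, ⊤)) (B : X ⟶ T) (C : Γ(X.left, ⊤)) :
    Cell i pp pm (P pm A * (B ≫ i) * P pp C) A B C := rfl

variable (hs : Sys i α pp pm av)
include hs

theorem cell_left_pp {X : Over S} {f : X ⟶ G} {A C : Γ(X.left, ⊤)} {B : X ⟶ T}
    (h : Cell i pp pm f A B C) (x : Γ(X.left, ⊤)) (K : Γ(X.left, ⊤)ˣ)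
    (hK : (K : Γ(X.left, ⊤)) = 1 + x * A) :
    ∃ A' B' C', Cell i pp pm (P pp x * f) A' B' C' := by
  have h1 : Cell i pp pm (P pp x * P pm A) (A * (↑K⁻¹ : Γ(X.left, ⊤))) (Gm.gmPt K ≫ av)
      (x * (↑K⁻¹ : Γ(X.left, ⊤))) := by
    rw [Cell, hs.rule x A K hK, Category.assoc]
  have h2 := H.cell_mul_right h1 B C
  rw [Cell] at h
  rw [h, ← _root_.mul_assoc, ← _root_.mul_assoc]
  exact ⟨_, _, _, h2⟩

theorem w₀_mul_H {X : Over S} (u : Γ(X.left, ⊤)ˣ) :
    Sys.W pp pm u = w₀ pp pm X * (Gm.gmPt u⁻¹ ≫ av ≫ i) := by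
  have h1 := hs.W_mul u (1 : Γ(X.left, ⊤)ˣ)
  rw [_root_.mul_one] at h1
  change _ = w₀ pp pm X * Sys.H i av u⁻¹
  rw [w₀, hs.W_mul_H, hs.H_inv, _root_.inv_inv, ← h1]

theorem T_mul_w₀ {X : Over S} (t : X ⟶ T) :
    ∃ t' : X ⟶ T, (t ≫ i) * w₀ pp pm X = w₀ pp pm X * (t' ≫ i) := by
  refine ⟨(Gm.gmPt (Sys.au α t)⁻¹ ≫ av) * t, ?_⟩
  rw [hs.conj_W, _root_.mul_one, H.w₀_mul_H hs, MonObj.mul_comp, Category.assoc, _root_.mul_assoc]

theorem w₀_mul_pp {X : Over S} (c : Γ(X.left, ⊤)) :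
    w₀ pp pm X * P pp c = P pm (-c) * w₀ pp pm X := by
  suffices key : ∀ (Y : Over S) (c : Γ(Y.left, ⊤)ˣ),
      w₀ pp pm Y * P pp (c : Γ(Y.left, ⊤)) = P pm (-(c : Γ(Y.left, ⊤))) * w₀ pp pm Y by
    refine pt_ext_affine fun q => ?_
    simp only [MonObj.comp_mul, P_comp, w₀_comp, map_neg]
    generalize (pieceHom X q).left.appTop c = c₁
    haveI : IsAffine (piece X q).left := inferInstanceAs (IsAffine (X.left.affineCover.X q))
    obtain ⟨X', d, t, -, hd, -, hu, -⟩ := exists_generic (piece X q)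
      ![Polynomial.X, Polynomial.C c₁ - Polynomial.X]
      (fun k => by fin_cases k <;> exact ⟨1, by simp⟩)
    have h0 := hu 0; have h1 := hu 1
    simp at h0 h1
    obtain ⟨a, ha⟩ := h0
    obtain ⟨b, hb⟩ := h1
    refine RankOne.eq_of_epi hd ?_
    simp only [MonObj.comp_mul, P_comp, w₀_comp, map_neg]
    have hc : d.left.appTop c₁ = (a : Γ(X'.left, ⊤)) + (b : Γ(X'.left, ⊤)) := by rw [hb, ha]; ring
    rw [hc, P_add, ← _root_.mul_assoc, key X' a, _root_.mul_assoc, key X' b, ← _root_.mul_assoc,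
      ← P_add, neg_add]
  intro Y c
  have hv : P pm (-(↑c⁻¹ : Γ(Y.left, ⊤))) * P pp (c : Γ(Y.left, ⊤)) * P pm (-(↑c⁻¹ : Γ(Y.left, ⊤))) =
      Sys.W pp pm c := by
    rw [← hs.W_symm c]; simp [Sys.W]
  have hwp : Sys.W pp pm c * P pp (c : Γ(Y.left, ⊤)) =
      P pm (-(↑c⁻¹ : Γ(Y.left, ⊤))) * Sys.W pp pm c := by
    conv_lhs => rw [← hv]
    simp [Sys.W, _root_.mul_assoc]
  have e : w₀ pp pm Y = Sys.H i av c⁻¹ * Sys.W pp pm c := by
    rw [w₀, ← hs.W_mul, inv_mul_cancel]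
  rw [e, _root_.mul_assoc, hwp, ← _root_.mul_assoc, hs.H_M, _root_.mul_assoc]
  congr 2
  rw [_root_.inv_inv]
  linear_combination -(c : Γ(Y.left, ⊤)) * c.mul_inv

theorem inBruhat_left_T {X : Over S} {f : X ⟶ G} (h : InBruhat i pp pm f) (t : X ⟶ T) :
    InBruhat i pp pm ((t ≫ i) * f) := by
  rcases h with ⟨A, B, C, h⟩ | ⟨t₁, C, h⟩
  · exact Or.inl ⟨_, _, _, H.cell_left_T h t⟩
  · obtain ⟨t', ht'⟩ := H.T_mul_w₀ hs t
    refine Or.inr ⟨t' * t₁, C, ?_⟩
    rw [h, ← _root_.mul_assoc, ← _root_.mul_assoc, ht', MonObj.mul_comp]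
    simp only [_root_.mul_assoc]

theorem inBruhat_left_pm {X : Over S} {f : X ⟶ G} (h : InBruhat i pp pm f) (y : Γ(X.left, ⊤)) :
    InBruhat i pp pm (P pm y * f) := by
  rcases h with ⟨A, B, C, h⟩ | ⟨t₁, C, h⟩
  · exact Or.inl ⟨_, _, _, H.cell_left_pm h y⟩
  · refine Or.inr ⟨t₁, Red.gmFn (t₁ ≫ α⁻¹) * (-y) + C, ?_⟩
    have e := H.w₀_mul_pp hs (-y)
    rw [neg_neg] at e
    rw [h, ← _root_.mul_assoc, ← _root_.mul_assoc, ← e, _root_.mul_assoc _ (P pp (-y)), H.P_mul_B, P_add]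
    simp only [_root_.mul_assoc]

theorem inBruhat_left_pp {X : Over S} (hk : IsField Γ(X.left, ⊤)) {f : X ⟶ G} (h : InBruhat i pp pm f)
    (x : Γ(X.left, ⊤)) : InBruhat i pp pm (P pp x * f) := by
  rcases h with ⟨A, B, C, h⟩ | ⟨t₁, C, h⟩
  · by_cases hK : 1 + x * A = 0
    · -- the other cell
      have hxu : IsUnit x := IsUnit.of_mul_eq_one (-A) (by linear_combination -hK)
      obtain ⟨u, hu⟩ := hxu
      have hA : A = -(↑u⁻¹ : Γ(X.left, ⊤)) := by
        linear_combination (↑u⁻¹ : Γ(X.left, ⊤)) * hK - A * u.inv_mul +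
          ((↑u⁻¹ : Γ(X.left, ⊤)) * A) * hu
      refine Or.inr ⟨(Gm.gmPt u⁻¹ ≫ av) * B, Red.gmFn (B ≫ α⁻¹) * (-x) + C, ?_⟩
      have e1 : P pp x * P pm A = w₀ pp pm X * (Gm.gmPt u⁻¹ ≫ av ≫ i) * P pp (-x) := by
        rw [← H.w₀_mul_H hs, hA, ← hu, P_neg pp (u : Γ(X.left, ⊤)), Sys.W, mul_inv_cancel_right]
      rw [Cell] at h
      rw [h, ← _root_.mul_assoc, ← _root_.mul_assoc, e1, _root_.mul_assoc _ (P pp (-x)), H.P_mul_B,
        MonObj.mul_comp, P_add, Category.assoc]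
      simp only [_root_.mul_assoc]
    · obtain ⟨K, hK'⟩ := FEq.isUnit_of_ne_zero X hk hK
      exact Or.inl (H.cell_left_pp hs h x K hK')
  · by_cases hx : x = 0
    · exact Or.inr ⟨t₁, C, by rw [hx, P_zero, _root_.one_mul, h]⟩
    · obtain ⟨u, hu⟩ := FEq.isUnit_of_ne_zero X hk hx
      left
      obtain ⟨A', B', C', h'⟩ := H.cell_left_pp hs (X := X) (H.cell_pt (-1) 1 0) (x + 1) (-u)
        (by rw [Units.val_neg, hu]; ring)
      have h'' := H.cell_mul_right (H.cell_mul_right h' 1 1) t₁ C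
      have e : P pp x * f = P pp (x + 1) * (P pm (-1) * (((1 : X ⟶ T)) ≫ i) * P pp 0) * ((1 : X ⟶ T) ≫ i) *
          P pp 1 * (t₁ ≫ i) * P pp C := by
        rw [h, MonObj.one_comp, P_zero, P_add, w₀, Sys.W]
        simp only [Units.val_one, inv_one, _root_.mul_one, _root_.mul_assoc]
      rw [e]
      exact ⟨_, _, _, h''⟩

theorem inBruhat_prod {X : Over S} {f : X ⟶ G} (h : InBruhat i pp pm f) :
    ∃ f₁ f₂ : X ⟶ G, (∃ A B C, Cell i pp pm f₁ A B C) ∧ (∃ A B C, Cell i pp pm f₂ A B C) ∧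
      f = f₁ * f₂ := by
  rcases h with h | ⟨t, C, h⟩
  · exact ⟨f, 1, h, ⟨_, _, _, H.cell_one⟩, (_root_.mul_one f).symm⟩
  · refine ⟨P pp 1, P pm (-1) * P pp 1 * (t ≫ i) * P pp C,
      ⟨0, 1, 1, by simp [Cell, P_zero, MonObj.one_comp]⟩, ⟨_, _, _, H.cell_mul_right
        (f := P pm (-1) * P pp 1) (A := -1) (B := 1) (C := 1) (by simp [Cell, MonObj.one_comp]) t C⟩, ?_⟩
    rw [h, w₀, Sys.W]
    simp only [Units.val_one, inv_one, _root_.mul_assoc]

theorem cell_mem_stab {X : Over S} (hk : IsField Γ(X.left, ⊤)) {f : X ⟶ G}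
    (h : ∃ A B C, Cell i pp pm f A B C) : f ∈ bruhatStab i pp pm X := by
  obtain ⟨A, B, C, h⟩ := h
  rw [Cell] at h
  rw [h]
  refine mul_mem (mul_mem (fun e => ⟨fun he => ?_, fun he => H.inBruhat_left_pm hs he A⟩)
    (fun e => ⟨fun he => ?_, fun he => H.inBruhat_left_T hs he B⟩))
    (fun e => ⟨fun he => ?_, fun he => H.inBruhat_left_pp hs hk he C⟩)
  · have := H.inBruhat_left_pm hs he (-A)
    rwa [P_neg, inv_mul_cancel_left] at this
  · have := H.inBruhat_left_T hs he B⁻¹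
    rwa [GrpObj.inv_comp B i, inv_mul_cancel_left] at this
  · have := H.inBruhat_left_pp hs hk he (-C)
    rwa [P_neg, inv_mul_cancel_left] at this

theorem inBruhat_of_mem_stab {X : Over S} {f : X ⟶ G} (h : f ∈ bruhatStab i pp pm X) :
    InBruhat i pp pm f := by
  have := (h 1).2 (Or.inl ⟨_, _, _, H.cell_one⟩)
  rwa [_root_.mul_one] at this

/-- Source of the product of two cells. -/
noncomputable abbrev dom2 (_H : Hyp i α pp pm) (_hs : Sys i α pp pm av) : Over S :=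
  ((Red.Ga S ⊗ T) ⊗ Red.Ga S) ⊗ ((Red.Ga S ⊗ T) ⊗ Red.Ga S)

/-- The product of two cells. -/
noncomputable abbrev cellProd : H.dom2 hs ⟶ G := (Φ i pp pm ⊗ₘ Φ i pp pm) ≫ μ[G]

theorem cellProd_flat_lfp (hG : Red.IsReductive G) :
    Flat (H.cellProd hs).left ∧ LocallyOfFinitePresentation (H.cellProd hs).left := by
  haveI := hG.2.1
  haveI := H.openImm
  haveI : IsOpenImmersion (Φ i pp pm ⊗ₘ Φ i pp pm).left :=
    tensorHom_left_of (P := @IsOpenImmersion) _ _ H.openImm H.openImm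
  have hμ1 : Flat (regularAction G).act.left := act_left_of _ (P := @Flat) inferInstance
  have hμ2 : LocallyOfFinitePresentation (regularAction G).act.left :=
    act_left_of _ (P := @LocallyOfFinitePresentation) inferInstance
  haveI : Flat (μ[G]).left := hμ1
  haveI : LocallyOfFinitePresentation (μ[G]).left := hμ2
  refine ⟨?_, ?_⟩ <;> rw [Over.comp_left] <;> infer_instance

theorem cellProd_surjective (hG : Red.IsReductive G) : Surjective (H.cellProd hs).left := by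
  obtain ⟨hfl, hfp⟩ := H.cellProd_flat_lfp hs hG
  haveI := H.openImm
  refine ⟨fun y => ?_⟩
  let s : S := G.hom y
  obtain ⟨-, hSm, hConn, -⟩ := hG.2.2 s
  let K := AlgebraicClosure (S.residueField s)
  let f : Spec (CommRingCat.of K) ⟶ S := Red.geomPt s
  let Gk : Over (Spec (CommRingCat.of K)) := Red.bc f G
  haveI : Smooth Gk.hom := hSm
  haveI : ConnectedSpace Gk.left := hConn
  haveI : JacobsonSpace Gk.left := LocallyOfFiniteType.jacobsonSpace Gk.hom
  let one : Over (Spec (CommRingCat.of K)) := 𝟙_ _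
  let X₀ : Over S := (Over.map f).obj one
  have hk : IsField Γ(X₀.left, ⊤) :=
    MulEquiv.isField (Field.toIsField K)
      (Scheme.ΓSpecIso (CommRingCat.of K)).commRingCatIsoToRingEquiv.toMulEquiv
  -- translates of the cell
  let Φk := (Over.pullback f).map (Φ i pp pm)
  haveI : IsOpenImmersion Φk.left := bc_map_left_of f (P := @IsOpenImmersion) (Φ i pp pm) H.openImm
  have hcell : ∀ (g : one ⟶ Gk), (∀ x, g.left x ∈ Φk.left.opensRange) ↔
      ∃ A B C, Cell i pp pm (BC.down f g) A B C := fun g => by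
    constructor
    · intro h
      have hr : Set.range g.left ⊆ Set.range Φk.left := by rintro _ ⟨x, rfl⟩; exact h x
      let w : one ⟶ Red.bc f _ := Over.homMk (IsOpenImmersion.lift Φk.left g.left hr) (by
        rw [← Over.w Φk, IsOpenImmersion.lift_fac_assoc, Over.w g])
      have hw : w ≫ Φk = g := Over.OverMorphism.ext (IsOpenImmersion.lift_fac _ _ _)
      rw [H.exists_cell_iff, ← hw, BC.down_map]
      rintro _ ⟨p, rfl⟩
      exact ⟨(BC.down f w).left p, rfl⟩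
    · rintro ⟨A, B, C, h⟩ x
      rw [Cell, ← trip_Φ] at h
      have : g = BC.up f (trip A B C) ≫ Φk := BC.down_injective (by rw [h, BC.down_map, BC.down_up])
      rw [this]
      exact ⟨(BC.up f (trip A B C)).left x, rfl⟩
  let Hs : Subgroup (one ⟶ Gk) := (bruhatStab i pp pm X₀).comap (BC.downMulEquiv f one G).toMonoidHom
  let U : Gk.left.Opens := ⨆ g : Hs, (translate (regularAction Gk) (g : one ⟶ Gk)⁻¹).hom.left ⁻¹ᵁ
    Φk.left.opensRange
  obtain ⟨s₀⟩ : Nonempty ↥(Spec (CommRingCat.of K)) := inferInstance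
  haveI : Subsingleton ↥one.left := inferInstanceAs (Subsingleton (PrimeSpectrum K))
  have hU : ∀ g : one ⟶ Gk, (∀ x, g.left x ∈ U) ↔ g ∈ Hs := fun g => by
    constructor
    · intro h
      obtain ⟨g₁, hg₁⟩ := TopologicalSpace.Opens.mem_iSup.1 (h s₀)
      have e : g ≫ (translate (regularAction Gk) (g₁ : one ⟶ Gk)⁻¹).hom = (g₁ : one ⟶ Gk)⁻¹ * g :=
        translate_regular_apply _ _
      have h2 := (hcell ((g₁ : one ⟶ Gk)⁻¹ * g)).1 fun x => by
        rw [← e, Over.comp_left, Scheme.Hom.comp_apply, Subsingleton.elim x s₀]; exact hg₁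
      have h3 : (g₁ : one ⟶ Gk)⁻¹ * g ∈ Hs := H.cell_mem_stab hs hk h2
      simpa using mul_mem g₁.2 h3
    · intro h x
      refine TopologicalSpace.Opens.mem_iSup.2 ⟨⟨g, h⟩, ?_⟩
      change (g ≫ (translate (regularAction Gk) g⁻¹).hom).left x ∈ Φk.left.opensRange
      rw [translate_regular_apply, inv_mul_cancel]
      refine (hcell 1).2 ?_ x
      rw [BC.down_one]
      exact ⟨_, _, _, H.cell_one⟩
  have htop : U = ⊤ := open_subgroup_eq_top U (fun x => (hU 1).2 (one_mem Hs) x)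
    fun g h hg hh => (hU _).2 (div_eq_mul_inv g h ▸ div_mem ((hU g).1 hg) ((hU h).1 hh))
  -- closed points of the fibre lie in the product of two cells
  let mk' := (Over.pullback f).map (H.cellProd hs)
  haveI : Flat mk'.left := bc_map_left_of f (P := @Flat) _ hfl
  haveI : LocallyOfFinitePresentation mk'.left := bc_map_left_of f (P := @LocallyOfFinitePresentation) _ hfp
  have hclosed : ∀ c ∈ closedPoints Gk.left, c ∈ Set.range mk'.left := fun c hc => by
    let g : one ⟶ Gk := Over.homMk (pointOfClosedPoint Gk.hom c hc) (pointOfClosedPoint_comp Gk.hom c hc)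
    have hg : g ∈ Hs := (hU g).1 fun x => by rw [htop]; trivial
    obtain ⟨f₁, f₂, ⟨A, B, C, h1⟩, ⟨A', B', C', h2⟩, he⟩ := H.inBruhat_prod hs (H.inBruhat_of_mem_stab hs hg)
    rw [Cell, ← trip_Φ] at h1 h2
    have e : g = BC.up f (CartesianMonoidalCategory.lift (trip A B C) (trip A' B' C')) ≫ mk' := BC.down_injective (by
      rw [BC.down_map, BC.down_up]
      refine he.trans ?_
      rw [h1, h2, Hom.mul_def]
      simp [cellProd, lift_map_assoc])
    refine ⟨(BC.up f (CartesianMonoidalCategory.lift (trip A B C) (trip A' B' C'))).left s₀, ?_⟩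
    rw [← Scheme.Hom.comp_apply, ← Over.comp_left, ← e]
    exact pointOfClosedPoint_apply Gk.hom c hc s₀
  have hall : Set.range mk'.left = Set.univ := by
    by_contra hne
    obtain ⟨z, hz⟩ := (Set.ne_univ_iff_exists_notMem _).1 hne
    obtain ⟨c, hc, hcl⟩ := nonempty_inter_closedPoints (X := Gk.left) (Z := (Set.range mk'.left)ᶜ)
      ⟨z, hz⟩ mk'.left.isOpenMap.isOpen_range.isClosed_compl.isLocallyClosed
    exact hc (hclosed c hcl)
  obtain ⟨y', hy', -⟩ := Scheme.Pullback.exists_preimage_pullback (f := G.hom) (g := f) y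
    (IsLocalRing.closedPoint K) (by
      change s = (Spec.map _ ≫ S.fromSpecResidueField s) _
      rw [Scheme.Hom.comp_apply, Scheme.fromSpecResidueField_apply])
  obtain ⟨w, hw⟩ : y' ∈ Set.range mk'.left := by rw [hall]; trivial
  refine ⟨bcProj f _ w, ?_⟩
  rw [← Scheme.Hom.comp_apply, ← bc_map_proj f (H.cellProd hs), Scheme.Hom.comp_apply, hw]
  exact hy'

theorem epi_cellProd (hG : Red.IsReductive G) : Epi (H.cellProd hs).left := by
  haveI := (H.cellProd_flat_lfp hs hG).1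
  haveI := H.cellProd_surjective hs hG
  exact Flat.epi_of_flat_of_surjective _

/-- Homomorphisms agreeing on the torus and on the two root groups agree. -/
theorem hom_ext (hG : Red.IsReductive G) {G' : Over S} [GrpObj G'] (f f' : G ⟶ G') [IsMonHom f] [IsMonHom f']
    (hi : i ≫ f = i ≫ f') (hp : pp ≫ f = pp ≫ f') (hm : pm ≫ f = pm ≫ f') : f = f' := by
  have hΦ : Φ i pp pm ≫ f = Φ i pp pm ≫ f' := by
    rw [← Category.id_comp (Φ i pp pm)]
    have e : (𝟙 _ : (Red.Ga S ⊗ T) ⊗ Red.Ga S ⟶ _) = trip (Red.gaFn (fst _ _ ≫ fst _ _))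
        (fst _ _ ≫ snd _ _) (Red.gaFn (snd _ _)) := by
      apply CartesianMonoidalCategory.hom_ext
      · apply CartesianMonoidalCategory.hom_ext
        · simp only [trip, lift_fst, Category.id_comp, Category.assoc]
          exact Ga.eq_gaPt _ rfl
        · simp [trip]
      · simp only [trip, lift_snd, Category.id_comp]
        exact Ga.eq_gaPt _ rfl
    rw [e, trip_Φ]
    simp only [MonObj.mul_comp, Category.assoc, hi, P, hp, hm]
  refine Over.OverMorphism.ext ?_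
  haveI := H.epi_cellProd hs hG
  refine (cancel_epi (H.cellProd hs).left).1 ?_
  rw [← Over.comp_left, ← Over.comp_left]
  congr 1
  rw [Category.assoc, Category.assoc, IsMonHom.mul_hom f, IsMonHom.mul_hom f', tensorHom_comp_tensorHom_assoc,
    tensorHom_comp_tensorHom_assoc, hΦ]

/-- Over a field every point is, after a surjective extension, in one of the two Bruhat cells. -/
theorem exists_inBruhat (hG : Red.IsReductive G) (X : Over S) [IsAffine X.left]
    (hk : IsField Γ(X.left, ⊤)) (g : X ⟶ G) :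
    ∃ (X' : Over S) (c : X' ⟶ X), IsAffine X'.left ∧ IsField Γ(X'.left, ⊤) ∧ Surjective c.left ∧
      InBruhat i pp pm (c ≫ g) := by
  haveI := H.cellProd_surjective hs hG
  haveI hne : Subsingleton ↥X.left := by
    letI := hk.toField
    haveI : Subsingleton ↥(Spec Γ(X.left, ⊤)) := inferInstanceAs (Subsingleton (PrimeSpectrum Γ(X.left, ⊤)))
    exact X.left.isoSpec.hom.homeomorph.subsingleton
  obtain ⟨p⟩ : Nonempty ↥X.left := by
    letI := hk.toField
    exact ⟨X.left.isoSpec.inv (IsLocalRing.closedPoint Γ(X.left, ⊤))⟩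
  obtain ⟨w, hw⟩ := (H.cellProd hs).left.surjective (g.left p)
  obtain ⟨v, hv, -⟩ := Scheme.Pullback.exists_preimage_pullback (f := g.left) (g := (H.cellProd hs).left) p w hw.symm
  let W : Over S := Over.mk (Limits.pullback.fst g.left (H.cellProd hs).left ≫ X.hom)
  let c₁ : W ⟶ X := Over.homMk (Limits.pullback.fst g.left (H.cellProd hs).left) rfl
  let d₁ : W ⟶ H.dom2 hs := Over.homMk (Limits.pullback.snd g.left (H.cellProd hs).left) (by
    change _ = Limits.pullback.fst g.left (H.cellProd hs).left ≫ X.hom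
    rw [← Over.w g, Limits.pullback.condition_assoc, Over.w (H.cellProd hs)])
  let c : ptObj W v ⟶ X := ptHom W v ≫ c₁
  haveI : Surjective c.left := ⟨fun x => ⟨IsLocalRing.closedPoint _, Subsingleton.elim _ _⟩⟩
  refine ⟨ptObj W v, c, inferInstanceAs (IsAffine (Spec (W.left.residueField v))), isField_ptObj W v,
    inferInstance, H.inBruhat_of_mem_stab hs ?_⟩
  have e : c ≫ g = (ptHom W v ≫ d₁) ≫ H.cellProd hs := by
    apply Over.OverMorphism.ext
    change (_ ≫ Limits.pullback.fst g.left (H.cellProd hs).left) ≫ g.left =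
      (_ ≫ Limits.pullback.snd g.left (H.cellProd hs).left) ≫ (H.cellProd hs).left
    rw [Category.assoc, Category.assoc, Limits.pullback.condition]
  have hcp : ∀ z : ptObj W v ⟶ H.dom2 hs,
      z ≫ H.cellProd hs = (z ≫ fst _ _ ≫ Φ i pp pm) * (z ≫ snd _ _ ≫ Φ i pp pm) := fun z => by
    rw [Hom.mul_def, ← comp_lift_assoc, ← lift_map]
    simp [cellProd]
  rw [e, hcp]
  have hc : ∀ z : ptObj W v ⟶ (Red.Ga S ⊗ T) ⊗ Red.Ga S, ∃ A B C, Cell i pp pm (z ≫ Φ i pp pm) A B C :=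
    fun z => (H.exists_cell_iff _).2 (by rintro _ ⟨q, rfl⟩; exact ⟨z.left q, rfl⟩)
  rw [← Category.assoc, ← Category.assoc _ (snd _ _)]
  exact mul_mem (H.cell_mem_stab hs (isField_ptObj W v) (hc _))
    (H.cell_mem_stab hs (isField_ptObj W v) (hc _))

end Hyp

end Groth.Agent.H82.BigCell
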