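import Groth.Agent.H82.RankOne2.Bruhat

/-!
# The centraliser of a multiple of the coroot is the torus
-/

set_option autoImplicit false
set_option linter.style.haveILetI false
set_option linter.unusedSectionVars false
universe u

open CategoryTheory MonoidalCategory CartesianMonoidalCategory MonObj GrpObj AlgebraicGeometry
open Groth.Agent.Lib.RedPts
open Groth.Agent.H82.RankOne (P P_eq P_add P_zero P_neg P_comp gmPt_eq gmPt_comp Sys)

namespace Groth.Agent.H82.BigCell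

variable {S : Scheme.{u}} {G T : Over S} [GrpObj G] [GrpObj T]
  {i : T ⟶ G} {α : T ⟶ Red.Gm S} {pp pm : Red.Ga S ⟶ G} {av : Red.Gm S ⟶ T}
  [IsMonHom i] [IsMonHom α] [IsMonHom pp] [IsMonHom pm]

theorem nontrivial_of_surjective {X X' : Over S} [IsAffine X'.left] (c : X' ⟶ X) [Surjective c.left]
    (h : Nonempty ↥X.left) : Nontrivial Γ(X'.left, ⊤) := by
  obtain ⟨p⟩ := h
  obtain ⟨q, -⟩ := c.left.surjective p
  by_contra hne
  rw [not_nontrivial_iff_subsingleton] at hne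
  have : IsEmpty ↥(Spec Γ(X'.left, ⊤)) :=
    inferInstanceAs (IsEmpty (PrimeSpectrum Γ(X'.left, ⊤)))
  exact this.false (X'.left.isoSpec.hom q)

theorem av_comp_H {X X' : Over S} (c : X' ⟶ X) (u : Γ(X.left, ⊤)ˣ) :
    c ≫ Sys.H i av u = Sys.H i av (Units.map c.left.appTop.hom.toMonoidHom u) := by
  rw [Sys.H, Sys.H, ← Category.assoc, gmPt_comp]

namespace Hyp

variable (H : Hyp i α pp pm) (hs : Sys i α pp pm av)
include H hs

theorem mem_torus_of_comm (hG : Red.IsReductive G) (m : ℕ) (hm : 0 < m) {X : Over S} (g : X ⟶ G)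
    (hc : ∀ (X' : Over S) (c : X' ⟶ X) (u : Γ(X'.left, ⊤)ˣ),
      (c ≫ g) * Sys.H i av (u ^ m) = Sys.H i av (u ^ m) * (c ≫ g)) :
    ∃ t : X ⟶ T, t ≫ i = g := by
  obtain ⟨A, B, C, hg⟩ : ∃ A B C, Cell i pp pm g A B C := by
    rw [H.exists_cell_iff]
    rintro _ ⟨p, rfl⟩
    obtain ⟨p', hp'⟩ := mem_range_ptHom X p
    suffices h : ∃ A B C, Cell i pp pm (ptHom X p ≫ g) A B C by
      rw [← hp']
      exact (H.exists_cell_iff _).1 h ⟨p', rfl⟩
    haveI : IsAffine (ptObj X p).left := inferInstanceAs (IsAffine (Spec (X.left.residueField p)))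
    obtain ⟨X₂, d, hX₂, hk₂, hd, hb⟩ := H.exists_inBruhat hs hG (ptObj X p) (isField_ptObj X p) (ptHom X p ≫ g)
    refine H.cell_of_surjective d ?_
    rcases hb with hb | ⟨t, C, hb⟩
    · exact hb
    exfalso
    haveI := hX₂
    obtain ⟨q, -⟩ := d.left.surjective p'
    obtain ⟨X₃, e, v, hX₃, -, he, hu, -⟩ := exists_generic X₂
      ![Polynomial.X, Polynomial.X ^ (4 * m) - 1]
      (fun k => by
        fin_cases k
        · exact ⟨1, by simp⟩
        · exact ⟨4 * m, by simp [Polynomial.coeff_one, show 4 * m ≠ 0 by omega, show m ≠ 0 by omega]⟩)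
    haveI := hX₃
    have h0 := hu 0; have h1 := hu 1
    simp at h0 h1
    obtain ⟨u, huv⟩ := h0
    haveI := nontrivial_of_surjective e ⟨q⟩
    let Bh : X₃ ⟶ T := Gm.gmPt (u ^ m) ≫ av
    have hh : Sys.H i av (u ^ m) = Bh ≫ i := (Category.assoc _ _ _).symm
    have hb' := congrArg (e ≫ ·) hb
    simp only [MonObj.comp_mul, P_comp, w₀_comp, ← Category.assoc] at hb'
    have hcm := hc X₃ ((e ≫ d) ≫ ptHom X p) u
    rw [hb'] at hcm
    have hwh : Sys.H i av (u ^ m) * w₀ pp pm X₃ = w₀ pp pm X₃ * (Sys.H i av (u ^ m))⁻¹ := by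
      rw [eq_mul_inv_iff_mul_eq, _root_.mul_assoc, w₀, hs.W_mul_H, mul_inv_cancel_left]
    have h2 : ((e ≫ t) ≫ i) * P pp (e.left.appTop C) * (Bh ≫ i) = (Bh⁻¹ ≫ i) * ((e ≫ t) ≫ i) * P pp (e.left.appTop C) := by
      rw [GrpObj.inv_comp Bh i, ← hh]
      refine mul_left_cancel (a := w₀ pp pm X₃) ?_
      calc _ = w₀ pp pm X₃ * ((e ≫ t) ≫ i) * P pp (e.left.appTop C) * Sys.H i av (u ^ m) := by
            simp only [_root_.mul_assoc]
        _ = _ := by rw [hcm, ← _root_.mul_assoc, ← _root_.mul_assoc, hwh]; simp only [_root_.mul_assoc]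
    have c1 : Cell i pp pm (((e ≫ t) ≫ i) * P pp (e.left.appTop C) * (Bh ≫ i)) 0 ((e ≫ t) * Bh)
        (Red.gmFn (Bh ≫ α⁻¹) * e.left.appTop C) := by
      rw [Cell, P_zero, _root_.one_mul, MonObj.mul_comp, _root_.mul_assoc, H.P_mul_B, _root_.mul_assoc]
    have c2 : Cell i pp pm ((Bh⁻¹ ≫ i) * ((e ≫ t) ≫ i) * P pp (e.left.appTop C)) 0 (Bh⁻¹ * (e ≫ t))
        (e.left.appTop C) := by
      rw [Cell, P_zero, _root_.one_mul, MonObj.mul_comp]
    rw [h2] at c1
    have e1 := (H.unique c1 c2).2.1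
    rw [H.comm Bh⁻¹, mul_right_inj, eq_inv_iff_mul_eq_one] at e1
    have e2 := congrArg (fun z => Red.gmFn (z ≫ α)) e1
    simp only [MonObj.mul_comp, MonObj.one_comp, Gm.gmFn_mul, Gm.gmFn_one, Bh, hs.sq, Units.val_pow_eq_pow_val, huv] at e2
    have e3 : v ^ (4 * m) = 1 := by rw [← e2, ← pow_add, ← pow_add]; congr 1; omega
    rw [e3, sub_self] at h1
    exact not_isUnit_zero h1
  refine ⟨B, ?_⟩
  have hAC : A = 0 ∧ C = 0 := by
    have key : ∀ (X₁ : Over S) (_ : IsAffine X₁.left) (c : X₁ ⟶ X),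
        c.left.appTop A = 0 ∧ c.left.appTop C = 0 := fun X₁ hX₁ c => by
      haveI := hX₁
      obtain ⟨X₃, e, v, -, he, -, hu, -⟩ := exists_generic X₁
        ![Polynomial.X, Polynomial.X ^ (2 * m) - 1]
        (fun k => by
          fin_cases k
          · exact ⟨1, by simp⟩
          · exact ⟨2 * m, by simp [Polynomial.coeff_one, show 2 * m ≠ 0 by omega, show m ≠ 0 by omega]⟩)
      have h0 := hu 0; have h1 := hu 1
      simp at h0 h1
      obtain ⟨u, huv⟩ := h0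
      let Bh : X₃ ⟶ T := Gm.gmPt (u ^ m) ≫ av
      have hh : Sys.H i av (u ^ m) = Bh ≫ i := (Category.assoc _ _ _).symm
      have hcm := hc X₃ (e ≫ c) u
      rw [hh] at hcm
      have cg := cell_comp (e ≫ c) hg
      have c1 : Cell i pp pm (((e ≫ c) ≫ g) * (Bh ≫ i) * P pp 0) ((e ≫ c).left.appTop A)
          (((e ≫ c) ≫ B) * Bh) (Red.gmFn (Bh ≫ α⁻¹) * (e ≫ c).left.appTop C + 0) := H.cell_mul_right cg Bh 0
      have c2 := H.cell_left_T cg Bh
      rw [P_zero, _root_.mul_one, hcm] at c1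
      obtain ⟨eA, -, eC⟩ := H.unique c1 c2
      have hec : ∀ a : Γ(X.left, ⊤), (e ≫ c).left.appTop a = e.left.appTop (c.left.appTop a) := fun a => by
        rw [Over.comp_left, Scheme.Hom.comp_appTop, CommRingCat.comp_apply]
      rw [hec] at eA eC
      have hb : Red.gmFn (Bh ≫ α⁻¹) * v ^ (2 * m) = 1 := by
        have h' : Red.gmFn (Bh ≫ α) = v ^ (2 * m) := by
          rw [hs.sq, Units.val_pow_eq_pow_val, huv, ← pow_add, two_mul]
        rw [← h', GrpObj.comp_inv, mul_comm, Gm.gmFn_mul_gmFn_inv]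
      refine ⟨fn_eq_of_epi he ?_, fn_eq_of_epi he ?_⟩
      · rw [map_zero]
        apply h1.mul_right_inj.1
        rw [mul_zero]
        linear_combination v ^ (2 * m) * eA + e.left.appTop (c.left.appTop A) * hb
      · rw [map_zero]
        apply h1.mul_right_inj.1
        rw [mul_zero]
        linear_combination (-(v ^ (2 * m))) * eC + e.left.appTop (c.left.appTop C) * hb
    constructor <;> refine fn_ext_affine fun X₁ c hX₁ => ?_ <;> rw [map_zero]
    · exact (key X₁ hX₁ c).1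
    · exact (key X₁ hX₁ c).2
  rw [Cell, hAC.1, hAC.2, P_zero, P_zero, _root_.one_mul, _root_.mul_one] at hg
  exact hg.symm

end Hyp

/-- `u ↦ av(u)` as a homomorphism. -/
noncomputable def avHom (hs : Sys i α pp pm av) (X : Over S) : Γ(X.left, ⊤)ˣ →* (X ⟶ T) :=
  MonoidHom.mk' (fun u => Gm.gmPt u ≫ av) hs.av_mul

theorem zpow_av (hs : Sys i α pp pm av) {X : Over S} (z : X ⟶ Red.Gm S) {u : Γ(X.left, ⊤)ˣ}
    (hz : Red.gmFn z = u) (n : ℤ) : ((z ≫ av) ^ n) ≫ i = Sys.H i av (u ^ n) := by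
  rw [gmPt_eq z hz, Sys.H, ← Category.assoc]
  congr 1
  exact (map_zpow (avHom hs X) u n).symm

end Groth.Agent.H82.BigCell
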