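import Groth.Agent.H82.RankOne2.WeylElt

/-!
# Homomorphisms between rank-one systems
-/

set_option autoImplicit false
set_option linter.style.haveILetI false
set_option linter.unusedSectionVars false
universe u

open CategoryTheory MonoidalCategory CartesianMonoidalCategory MonObj GrpObj AlgebraicGeometry
open Groth.Agent.Lib.RedPts
open Groth.Agent.H82.RankOne (P P_eq P_add P_zero P_neg P_comp gmPt_eq gmPt_comp Sys)

namespace Groth.Agent.H82.BigCell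

variable {S : Scheme.{u}}

/-- `x ↦ x ^ q` is additive on all functions. -/
def IsAddPow (S : Scheme.{u}) (q : ℕ) : Prop :=
  ∀ (X : Over S) (a b : Γ(X.left, ⊤)), (a + b) ^ q = a ^ q + b ^ q

theorem IsAddPow.neg_one {q : ℕ} (hq : IsAddPow S q) (hq0 : 0 < q) (X : Over S) :
    (-1 : Γ(X.left, ⊤)) ^ q = -1 := by
  have h := hq X 1 (-1)
  rw [add_neg_cancel, zero_pow hq0.ne', one_pow] at h
  linear_combination -h

theorem IsAddPow.neg {q : ℕ} (hq : IsAddPow S q) (hq0 : 0 < q) (X : Over S) (a : Γ(X.left, ⊤)) :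
    (-a) ^ q = -(a ^ q) := by
  rw [neg_pow, hq.neg_one hq0, neg_mul, _root_.one_mul]

theorem IsAddPow.sub {q : ℕ} (hq : IsAddPow S q) (hq0 : 0 < q) (X : Over S) (a b : Γ(X.left, ⊤)) :
    (a - b) ^ q = a ^ q - b ^ q := by
  rw [sub_eq_add_neg, hq X, hq.neg hq0 X, ← sub_eq_add_neg]

/-- A global unit pulled to any object. -/
noncomputable def cst (v : Γ((𝟙_ (Over S)).left, ⊤)ˣ) (X : Over S) : Γ(X.left, ⊤)ˣ :=
  Units.map (toUnit X).left.appTop.hom.toMonoidHom v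

theorem cst_comp (v : Γ((𝟙_ (Over S)).left, ⊤)ˣ) {X X' : Over S} (c : X' ⟶ X) :
    Units.map c.left.appTop.hom.toMonoidHom (cst v X) = cst v X' := by
  ext
  change c.left.appTop ((toUnit X).left.appTop (v : Γ((𝟙_ (Over S)).left, ⊤))) = (toUnit X').left.appTop _
  rw [← CommRingCat.comp_apply, ← Scheme.Hom.comp_appTop, ← Over.comp_left, toUnit_unique (c ≫ toUnit X) (toUnit X')]

theorem cst_comp_val (v : Γ((𝟙_ (Over S)).left, ⊤)ˣ) {X X' : Over S} (c : X' ⟶ X) :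
    c.left.appTop (cst v X : Γ(X.left, ⊤)) = (cst v X' : Γ(X'.left, ⊤)) :=
  congrArg Units.val (cst_comp v c)

theorem cst_spec (v : Γ((𝟙_ (Over S)).left, ⊤)ˣ) (p : 𝟙_ (Over S) ⟶ Red.Gm S)
    (h : Red.gmFn p = v) (X : Over S) : Red.gmFn (toUnit X ≫ p) = (cst v X : Γ(X.left, ⊤)) := by
  rw [Gm.gmFn_comp, h]; rfl

variable {G T : Over S} [GrpObj G] [GrpObj T]
  {i : T ⟶ G} {α : T ⟶ Red.Gm S} {pp pm : Red.Ga S ⟶ G} {av : Red.Gm S ⟶ T}
  [IsMonHom i] [IsMonHom α] [IsMonHom pp] [IsMonHom pm]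

/-- Over a nonempty base `w₀` is outside the big cell. -/
theorem Hyp.w₀_not_cell (H : Hyp i α pp pm) (hs : Sys i α pp pm av) {X : Over S} [IsAffine X.left]
    (hX : Nonempty ↥X.left) (A : Γ(X.left, ⊤)) (B : X ⟶ T) (C : Γ(X.left, ⊤)) :
    ¬ Cell i pp pm (w₀ pp pm X) A B C := by
  intro h
  obtain ⟨X₃, e, v, hX₃, -, he, hu, -⟩ := exists_generic X
    ![Polynomial.X, Polynomial.X ^ 4 - 1]
    (fun k => by
      fin_cases k
      · exact ⟨1, by simp⟩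
      · exact ⟨4, by simp [Polynomial.coeff_one]⟩)
  haveI := hX₃
  have h0 := hu 0; have h1 := hu 1
  simp at h0 h1
  obtain ⟨u, huv⟩ := h0
  haveI := nontrivial_of_surjective e hX
  let Bh : X₃ ⟶ T := Gm.gmPt u ≫ av
  have hh : Sys.H i av u = Bh ≫ i := (Category.assoc _ _ _).symm
  have h' := cell_comp e h
  rw [w₀_comp] at h'
  have c1 := H.cell_mul_right h' Bh 0
  have c2 := H.cell_left_T h' Bh⁻¹
  have hwh : w₀ pp pm X₃ * (Bh ≫ i) * P pp 0 = (Bh⁻¹ ≫ i) * w₀ pp pm X₃ := by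
    rw [P_zero, _root_.mul_one, GrpObj.inv_comp Bh i, ← hh, w₀, hs.W_mul_H]
  rw [hwh] at c1
  have e1 := (H.unique c1 c2).2.1
  rw [H.comm Bh⁻¹, mul_right_inj, eq_inv_iff_mul_eq_one] at e1
  have e2 := congrArg (fun z => Red.gmFn (z ≫ α)) e1
  simp only [MonObj.mul_comp, MonObj.one_comp, Gm.gmFn_mul, Gm.gmFn_one, Bh, hs.sq, huv] at e2
  rw [show v ^ 4 = 1 by rw [← e2]; ring, sub_self] at h1
  exact not_isUnit_zero h1

variable {G' T' : Over S} [GrpObj G'] [GrpObj T']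
  {i' : T' ⟶ G'} {α' : T' ⟶ Red.Gm S} {pp' pm' : Red.Ga S ⟶ G'} {av' : Red.Gm S ⟶ T'}
  [IsMonHom i'] [IsMonHom α'] [IsMonHom pp'] [IsMonHom pm']

/-- `f` maps `pp(x)` to `pp'(c x^q)`. -/
def MapsPP (pp : Red.Ga S ⟶ G) (pp' : Red.Ga S ⟶ G') (f : G ⟶ G') (v : Γ((𝟙_ (Over S)).left, ⊤)ˣ) (q : ℕ) : Prop :=
  ∀ (X : Over S) (x : Γ(X.left, ⊤)), P pp x ≫ f = P pp' ((cst v X : Γ(X.left, ⊤)) * x ^ q)

/-- `f` maps the coroot to the `q`-th power of the coroot. -/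
def MapsCoroot (i : T ⟶ G) (av : Red.Gm S ⟶ T) (i' : T' ⟶ G') (av' : Red.Gm S ⟶ T') (f : G ⟶ G') (q : ℕ) : Prop :=
  ∀ (X : Over S) (u : Γ(X.left, ⊤)ˣ), Sys.H i av u ≫ f = Sys.H i' av' (u ^ q)

/-- `f` maps Weyl elements to Weyl elements. -/
def MapsW (pp pm : Red.Ga S ⟶ G) (pp' pm' : Red.Ga S ⟶ G') (f : G ⟶ G') (v : Γ((𝟙_ (Over S)).left, ⊤)ˣ) (q : ℕ) : Prop :=
  ∀ (X : Over S) (u : Γ(X.left, ⊤)ˣ), Sys.W pp pm u ≫ f = Sys.W pp' pm' (cst v X * u ^ q)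

/-- `f` maps `pm(y)` to `pm'(c⁻¹ y^q)`. -/
def MapsPM (pm : Red.Ga S ⟶ G) (pm' : Red.Ga S ⟶ G') (f : G ⟶ G') (v : Γ((𝟙_ (Over S)).left, ⊤)ˣ) (q : ℕ) : Prop :=
  ∀ (X : Over S) (y : Γ(X.left, ⊤)), P pm y ≫ f = P pm' ((↑(cst v X)⁻¹ : Γ(X.left, ⊤)) * y ^ q)

variable (f : G ⟶ G') [IsMonHom f] {v : Γ((𝟙_ (Over S)).left, ⊤)ˣ} {q : ℕ}

theorem mapsW_of_mapsPM (hq : IsAddPow S q) (hq0 : 0 < q) (hp : MapsPP pp pp' f v q)
    (hm : MapsPM pm pm' f v q) : MapsW pp pm pp' pm' f v q := by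
  intro X u
  rw [Sys.W, MonObj.mul_comp _ _ f, MonObj.mul_comp _ _ f, hp, hm, Sys.W, hq.neg hq0]
  congr 3
  rw [_root_.mul_inv_rev, Units.val_mul, ← inv_pow, Units.val_pow_eq_pow_val]
  ring

theorem mapsCoroot_of_mapsW (hs : Sys i α pp pm av) (hs' : Sys i' α' pp' pm' av')
    (hw : MapsW pp pm pp' pm' f v q) : MapsCoroot i av i' av' f q := by
  intro X u
  have e : Sys.H i av u = Sys.W pp pm u * (Sys.W pp pm (1 : Γ(X.left, ⊤)ˣ))⁻¹ := by
    rw [eq_mul_inv_iff_mul_eq, ← hs.W_mul, _root_.mul_one]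
  rw [e, MonObj.mul_comp _ _ f, GrpObj.inv_comp _ f, hw, hw, one_pow, _root_.mul_one,
    mul_comm (cst v X), hs'.W_mul, mul_inv_cancel_right]

variable [IsMonHom av']

theorem mapsPM_of_mapsCoroot (H : Hyp i α pp pm) (hs : Sys i α pp pm av) (H' : Hyp i' α' pp' pm')
    (hs' : Sys i' α' pp' pm' av') (hG' : Red.IsReductive G') (hq : IsAddPow S q) (hq0 : 0 < q)
    (hp : MapsPP pp pp' f v q) (hc : MapsCoroot i av i' av' f q) : MapsPM pm pm' f v q := by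
  let W1 : 𝟙_ (Over S) ⟶ G' := w₀ pp pm (𝟙_ (Over S)) ≫ f
  obtain ⟨t, ht⟩ := H'.exists_eq_w₀_mul hs' hG' (q : ℤ) (by exact_mod_cast hq0.ne') W1 fun X z => by
    rw [zpow_av hs' _ (Gm.isUnit_gmFn z).unit_spec.symm, zpow_natCast]
    generalize (Gm.isUnit_gmFn z).unit = u
    simp only [W1]
    rw [← Category.assoc, w₀_comp, ← hc X u, ← GrpObj.inv_comp _ f, ← MonObj.mul_comp _ _ f,
      ← MonObj.mul_comp _ _ f, ← GrpObj.inv_comp _ f, w₀, hs.W_mul_H, mul_inv_cancel_right]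
  obtain ⟨a, ha⟩ := Gm.isUnit_gmFn (t ≫ α')
  -- `f(pm(y)) = pm'(b y^q)`
  have hb : ∀ (X : Over S) (y : Γ(X.left, ⊤)),
      P pm y ≫ f = P pm' ((cst a X : Γ(X.left, ⊤)) * (cst v X : Γ(X.left, ⊤)) * y ^ q) := by
    intro X y
    have e : P pm y = w₀ pp pm X * P pp (-y) * (w₀ pp pm X)⁻¹ := by
      rw [H.w₀_mul_pp hs, neg_neg, mul_inv_cancel_right]
    have hwX : w₀ pp pm X ≫ f = w₀ pp' pm' X * ((toUnit X ≫ t) ≫ i') := by
      rw [← w₀_comp (pp := pp) (pm := pm) (toUnit X), Category.assoc]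
      change toUnit X ≫ W1 = _
      rw [ht, MonObj.comp_mul, w₀_comp, Category.assoc]
    have hat : Red.gmFn ((toUnit X ≫ t) ≫ α') = (cst a X : Γ(X.left, ⊤)) := by
      rw [Category.assoc, Gm.gmFn_comp, ← ha]; rfl
    rw [e, MonObj.mul_comp _ _ f, MonObj.mul_comp _ _ f, GrpObj.inv_comp _ f, hp, hwX, _root_.mul_inv_rev,
      _root_.mul_assoc (w₀ pp' pm' X), H'.conjP, hat]
    simp only [_root_.mul_assoc, mul_inv_cancel_left]
    rw [← _root_.mul_assoc (w₀ pp' pm' X), H'.w₀_mul_pp hs', mul_inv_cancel_right, hq.neg hq0]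
    congr 1
    ring
  -- the product of the two constants is one
  have hone : ∀ (X : Over S), IsAffine X.left →
      (cst v X : Γ(X.left, ⊤)) * ((cst a X : Γ(X.left, ⊤)) * (cst v X : Γ(X.left, ⊤))) = 1 := by
    intro X hX
    haveI := hX
    let d : Γ(X.left, ⊤)ˣ := cst v X * (cst a X * cst v X)
    obtain ⟨X₁, e, t₁, -, he, -, hu, -⟩ := exists_generic X
      ![Polynomial.X, 1 + Polynomial.X, 1 + Polynomial.C (d : Γ(X.left, ⊤)) * Polynomial.X ^ q]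
      (fun k => by
        fin_cases k
        · exact ⟨1, by simp⟩
        · exact ⟨0, by simp⟩
        · exact ⟨0, by simp [zero_pow hq0.ne', hq0.ne]⟩)
    refine fn_eq_of_epi he ?_
    rw [map_one, map_mul, map_mul, cst_comp_val, cst_comp_val]
    have h0 := hu 0; have h1 := hu 1; have h2 := hu 2
    simp [d, cst_comp_val] at h0 h1 h2
    obtain ⟨K, hK⟩ := h1
    obtain ⟨K', hK'⟩ := h2
    obtain ⟨u, hu0⟩ := h0
    have hr := hs.rule (1 : Γ(X₁.left, ⊤)) t₁ K (by rw [hK, _root_.one_mul])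
    have hf := congrArg (fun z => z ≫ f) hr
    simp only [MonObj.mul_comp _ _ f] at hf
    rw [hp, hb, hb, hp] at hf
    change _ = _ * (Sys.H i av K ≫ f) * _ at hf
    rw [hc] at hf
    have hr' := hs'.rule ((cst v X₁ : Γ(X₁.left, ⊤)) * 1 ^ q)
      ((cst a X₁ : Γ(X₁.left, ⊤)) * (cst v X₁ : Γ(X₁.left, ⊤)) * t₁ ^ q) K'
      (by rw [hK', one_pow]; ring)
    rw [Sys.H, ← Category.assoc] at hf
    rw [← Category.assoc] at hr'
    obtain ⟨e1, -, -⟩ := H'.unique (f := P pp' _ * P pm' _) hf hr'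
    have e2 : (K' : Γ(X₁.left, ⊤)) = 1 + t₁ ^ q := by
      have e3 := (((cst a X₁).isUnit.mul (cst v X₁).isUnit).mul_right_inj).1
        (show (cst a X₁ : Γ(X₁.left, ⊤)) * (cst v X₁ : Γ(X₁.left, ⊤)) * (t₁ * (↑K⁻¹ : Γ(X₁.left, ⊤))) ^ q =
          (cst a X₁ : Γ(X₁.left, ⊤)) * (cst v X₁ : Γ(X₁.left, ⊤)) * (t₁ ^ q * (↑K'⁻¹ : Γ(X₁.left, ⊤))) by
          rw [e1]; ring)
      rw [mul_pow] at e3
      have e4 := (hu0 ▸ u.isUnit : IsUnit t₁).pow q |>.mul_right_inj.1 e3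
      have hKq : (K : Γ(X₁.left, ⊤)) ^ q = 1 + t₁ ^ q := by rw [hK, hq, one_pow]
      rw [← hKq]
      have hKK : (K : Γ(X₁.left, ⊤)) ^ q * (↑K⁻¹ : Γ(X₁.left, ⊤)) ^ q = 1 := by
        rw [← mul_pow, Units.mul_inv, one_pow]
      linear_combination ((K' : Γ(X₁.left, ⊤)) * (K : Γ(X₁.left, ⊤)) ^ q) * e4 + (K : Γ(X₁.left, ⊤)) ^ q * K'.mul_inv -
        (K' : Γ(X₁.left, ⊤)) * hKK
    refine ((hu0 ▸ u.isUnit : IsUnit t₁).pow q).mul_left_inj.1 ?_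
    rw [_root_.one_mul]
    linear_combination e2 - hK'
  intro X y
  refine pt_ext_affine fun p => ?_
  rw [← Category.assoc, P_comp, hb, P_comp, map_mul, map_pow]
  haveI : IsAffine (piece X p).left := inferInstanceAs (IsAffine (X.left.affineCover.X p))
  have h1 := hone (piece X p) inferInstance
  congr 2
  rw [show (pieceHom X p).left.appTop (↑(cst v X)⁻¹ : Γ(X.left, ⊤)) = (↑(cst v (piece X p))⁻¹ : Γ((piece X p).left, ⊤)) by
    rw [← cst_comp v (pieceHom X p)]; rfl]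
  linear_combination (↑(cst v (piece X p))⁻¹ : Γ((piece X p).left, ⊤)) * h1 -
    ((cst a (piece X p) : Γ((piece X p).left, ⊤)) * (cst v (piece X p) : Γ((piece X p).left, ⊤))) * (cst v (piece X p)).mul_inv

end Groth.Agent.H82.BigCell
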