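import Groth.Agent.H82.RankOne2.Normalise
import Groth.Agent.H82.RankOne2.Transfer

/-!
# Closed root groups and Borel groups in semisimple rank one
-/

set_option autoImplicit false
set_option linter.style.haveILetI false
set_option linter.unusedSectionVars false
universe u

open CategoryTheory MonoidalCategory CartesianMonoidalCategory MonObj GrpObj AlgebraicGeometry
open Groth.Agent.Lib.RedPts
open Groth.Agent.H82.RankOne (P P_eq P_add P_zero P_neg P_comp gmPt_eq gmPt_comp Sys sys_of_hyp)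

namespace Groth.Agent.H82.BigCell

variable {S : Scheme.{u}} {G T : Over S} [GrpObj G] [GrpObj T]
  {i : T ⟶ G} {α : T ⟶ Red.Gm S} {pp pm : Red.Ga S ⟶ G}
  [IsMonHom i] [IsMonHom α] [IsMonHom pp] [IsMonHom pm]

/-- `exists_sys`, remembering the rescaling. -/
theorem exists_sys_iso (hG : Red.IsReductive G) [Mono i] (hT : Red.IsTorus T)
    (hα : ∀ s : S, (Over.pullback (Red.geomPt s)).map α ≠ 1) [Mono pp] [Mono pm]
    (hpp : ∀ (X : Over S) (t : X ⟶ T) (x : X ⟶ Red.Ga S), ∃ x' : X ⟶ Red.Ga S,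
      x' ≫ pp = (t ≫ i) * (x ≫ pp) * (t ≫ i)⁻¹ ∧ Red.gaFn x' = Red.gmFn (t ≫ α) * Red.gaFn x)
    (hpm : ∀ (X : Over S) (t : X ⟶ T) (y : X ⟶ Red.Ga S), ∃ y' : X ⟶ Red.Ga S,
      y' ≫ pm = (t ≫ i) * (y ≫ pm) * (t ≫ i)⁻¹ ∧ Red.gaFn y' * Red.gmFn (t ≫ α) = Red.gaFn y)
    (hΩ : IsOpenImmersion (((pm ⊗ₘ i) ⊗ₘ pp) ≫ (μ[G] ▷ G) ≫ μ[G]).left) :
    ∃ (pm' : Red.Ga S ⟶ G) (_ : IsMonHom pm') (av : Red.Gm S ⟶ T) (_ : IsMonHom av),
      Hyp i α pp pm' ∧ Sys i α pp pm' av ∧ ∃ σ : Red.Ga S ⟶ Red.Ga S, IsIso σ ∧ pm = σ ≫ pm' := by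
  obtain ⟨⟨p₁, av⟩, ⟨hav, hsq, hF⟩, -⟩ := Groth.Agent.S4131.result S G T i hT α hα pp pm hpp hpm hΩ
    (exists_not_comm hG hT (hyp_of hT hα hpp hpm hΩ))
  let v : Γ((𝟙_ (Over S)).left, ⊤)ˣ := (Gm.isUnit_gmFn p₁).unit
  have hv : ∀ X : Over S, (toUnit X).left.appTop (v : Γ((𝟙_ (Over S)).left, ⊤)) = Red.gmFn (toUnit X ≫ p₁) :=
    fun X => by rw [Gm.gmFn_comp]; rfl
  haveI := isMonHom_gaScale (S := S) v⁻¹
  refine ⟨gaScale v⁻¹ ≫ pm, inferInstance, av, hav,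
    hyp_of hT hα hpp (hpm_gaScale v⁻¹ hpm) (openImm_gaScale v⁻¹ hΩ), ?_, gaScale v, isIso_gaScale v, by
      rw [← Category.assoc, gaScale_comp, inv_mul_cancel, gaScale_one, Category.id_comp]⟩
  refine sys_of_hyp hpp (hpm_gaScale v⁻¹ hpm) hsq fun X x y hu => ?_
  have e : Red.gmFn (toUnit X ≫ p₁) * Red.gaFn x * Red.gaFn (y ≫ gaScale v⁻¹) = Red.gaFn x * Red.gaFn y := by
    rw [gaFn_comp_gaScale, ← hv]
    have := v.mul_inv
    apply_fun (toUnit X).left.appTop at this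
    rw [map_mul, map_one] at this
    linear_combination (Red.gaFn x * Red.gaFn y) * this
  obtain ⟨x', y', z, hz, hx', hy', h⟩ := (hF X x (y ≫ gaScale v⁻¹)).2 (by rw [e]; exact hu)
  refine ⟨x', y' ≫ gaScale v, z, by rw [hz, e], hx', ?_, ?_⟩
  · rw [gaFn_comp_gaScale, _root_.mul_assoc, hy', gaFn_comp_gaScale, ← _root_.mul_assoc, ← map_mul, Units.mul_inv, map_one,
      _root_.one_mul]
  · rw [← Category.assoc, ← Category.assoc, h, Category.assoc y', gaScale_comp, inv_mul_cancel, gaScale_one,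
      Category.comp_id]

/-- A morphism through the cell is a closed immersion if its translate misses the cell. -/
theorem isClosedImmersion_of_translate {Y C Z : Over S} (Φ' : C ⟶ Z) [IsOpenImmersion Φ'.left] (L : Z ⟶ Z)
    (hcover : ∀ p : Z.left, p ∈ Set.range Φ'.left ∨ L.left p ∈ Set.range Φ'.left)
    (j : Y ⟶ C) [IsClosedImmersion j.left]
    (hmiss : ∀ y : Y.left, (j ≫ Φ' ≫ L).left y ∉ Set.range Φ'.left) :
    IsClosedImmersion (j ≫ Φ').left := by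
  rw [Over.comp_left]
  haveI : IsPreimmersion (j.left ≫ Φ'.left) := inferInstance
  refine IsClosedImmersion.of_isPreimmersion _ (isOpen_compl_iff.1 ?_)
  have e : (Set.range (j.left ≫ Φ'.left))ᶜ =
      Φ'.left '' (Set.range j.left)ᶜ ∪ L.left ⁻¹' Set.range Φ'.left := by
    ext p
    constructor
    · intro hp
      rcases hcover p with ⟨x, rfl⟩ | h
      · exact Or.inl ⟨x, fun ⟨y, hy⟩ => hp ⟨y, by rw [Scheme.Hom.comp_apply, hy]⟩, rfl⟩
      · exact Or.inr h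
    · rintro (⟨x, hx, rfl⟩ | h) ⟨y, hy⟩
      · exact hx ⟨y, Φ'.left.isOpenEmbedding.injective hy⟩
      · subst hy
        exact hmiss y h
  rw [e]
  exact (Φ'.left.isOpenEmbedding.isOpenMap _ j.left.isClosedEmbedding.isClosed_range.isOpen_compl).union
    (Φ'.left.isOpenEmbedding.isOpen_range.preimage L.left.continuous)

theorem isClosedImmersion_of_retraction {Y C : Over S} (j : Y ⟶ C) (q : C ⟶ Y) [IsSeparated C.hom]
    (h : j ≫ q = 𝟙 Y) : IsClosedImmersion j.left := by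
  haveI : IsSeparated (q.left ≫ Y.hom) := by rw [Over.w q]; infer_instance
  haveI : IsSeparated q.left := IsSeparated.of_comp q.left Y.hom
  haveI : IsClosedImmersion (j.left ≫ q.left) := by
    rw [← Over.comp_left, h, Over.id_left]; infer_instance
  exact IsClosedImmersion.of_comp j.left q.left

namespace Hyp

variable (H : Hyp i α pp pm) {av : Red.Gm S ⟶ T} (hs : Sys i α pp pm av)
include H hs

theorem inv_w₀_not_cell {X : Over S} [IsAffine X.left] (hX : Nonempty ↥X.left) (A : Γ(X.left, ⊤))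
    (B : X ⟶ T) (C : Γ(X.left, ⊤)) : ¬ Cell i pp pm (w₀ pp pm X)⁻¹ A B C := by
  intro h
  have e : w₀ pp pm X = ((Gm.gmPt (-1 : Γ(X.left, ⊤)ˣ) ≫ av) ≫ i) * (w₀ pp pm X)⁻¹ := by
    rw [eq_mul_inv_iff_mul_eq, w₀, hs.W_mul_W 1 1 (-1) (by simp), Sys.H, Category.assoc]
  have h' := H.cell_left_T h (Gm.gmPt (-1 : Γ(X.left, ⊤)ˣ) ≫ av)
  rw [← e] at h'
  exact H.w₀_not_cell hs hX _ _ _ h'

theorem closed_borels (hG : Red.IsReductive G) [Mono pp] [Mono pm] :
    IsClosedImmersion pp.left ∧ IsClosedImmersion pm.left ∧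
      IsClosedImmersion ((i ⊗ₘ pp) ≫ μ[G]).left ∧ IsClosedImmersion ((i ⊗ₘ pm) ≫ μ[G]).left := by
  haveI := hG.1
  haveI := H.openImm
  haveI := H.monoI
  haveI : Mono pp.left := inferInstanceAs (Mono ((Over.forget S).map pp))
  haveI : Mono i.left := inferInstanceAs (Mono ((Over.forget S).map i))
  haveI : IsSeparated (Red.Ga S).hom := by rw [← Over.w pp]; infer_instance
  haveI : IsSeparated T.hom := by rw [← Over.w i]; infer_instance
  haveI : IsSeparated (Red.Ga S ⊗ T).hom := by rw [Over.tensorObj_hom]; infer_instance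
  haveI : IsSeparated ((Red.Ga S ⊗ T) ⊗ Red.Ga S).hom := by rw [Over.tensorObj_hom]; infer_instance
  haveI : IsSeparated (T ⊗ Red.Ga S).hom := by rw [Over.tensorObj_hom]; infer_instance
  let wi : ∀ X : Over S, X ⟶ G := fun X => toUnit X ≫ (w₀ pp pm (𝟙_ (Over S)))⁻¹
  have hwi : ∀ {X : Over S}, wi X = (w₀ pp pm X)⁻¹ := fun {X} => by
    simp only [wi, GrpObj.comp_inv, w₀_comp]
  have hwc : ∀ {X X' : Over S} (c : X' ⟶ X), c ≫ wi X = wi X' := fun {X X'} c => by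
    simp only [wi, ← Category.assoc, toUnit_unique (c ≫ toUnit X) (toUnit X')]
  -- the two translations
  have hL : ∀ {X : Over S} (g : X ⟶ G), g ≫ (wi G * 𝟙 G) = (w₀ pp pm X)⁻¹ * g := fun {X} g => by
    rw [MonObj.comp_mul, Category.comp_id, hwc, hwi]
  have hR : ∀ {X : Over S} (g : X ⟶ G), g ≫ (𝟙 G * wi G) = g * (w₀ pp pm X)⁻¹ := fun {X} g => by
    rw [MonObj.comp_mul, Category.comp_id, hwc, hwi]
  have hcov : ∀ p : G.left, (p ∈ Set.range (Φ i pp pm).left ∨ (wi G * 𝟙 G).left p ∈ Set.range (Φ i pp pm).left) ∧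
      (p ∈ Set.range (Φ i pp pm).left ∨ (𝟙 G * wi G).left p ∈ Set.range (Φ i pp pm).left) := fun p => by
    haveI : IsAffine (ptObj G p).left := inferInstanceAs (IsAffine (Spec (G.left.residueField p)))
    obtain ⟨Y, c, hY, -, hc, hb⟩ := H.exists_inBruhat hs hG (ptObj G p) (isField_ptObj G p) (ptHom G p)
    haveI := hc
    obtain ⟨p', hp'⟩ := mem_range_ptHom G p
    obtain ⟨q, hq⟩ := c.left.surjective p'
    have hmem : ∀ M : G ⟶ G, (∃ A B C, Cell i pp pm ((c ≫ ptHom G p) ≫ M) A B C) →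
        M.left p ∈ Set.range (Φ i pp pm).left := fun M hM => by
      rw [← hp', ← hq]
      exact (H.exists_cell_iff _).1 hM ⟨q, rfl⟩
    rcases hb with hb | ⟨t, C, hb⟩
    · have := hmem (𝟙 G) (by rwa [Category.comp_id])
      exact ⟨Or.inl this, Or.inl this⟩
    · refine ⟨Or.inr (hmem _ ?_), Or.inr (hmem _ ?_)⟩
      · rw [hL, hb, _root_.mul_assoc, inv_mul_cancel_left]
        exact ⟨0, t, C, by rw [Cell, P_zero, _root_.one_mul]⟩
      · obtain ⟨t', ht'⟩ : ∃ t' : Y ⟶ T, w₀ pp pm Y * (t ≫ i) * (w₀ pp pm Y)⁻¹ = t' ≫ i :=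
          ⟨(t ≫ α ≫ av)⁻¹ * t, by
            rw [MonObj.mul_comp _ _ i, GrpObj.inv_comp _ i]
            simpa only [Category.assoc] using hs.W_conj t 1⟩
        have e : w₀ pp pm Y * (t ≫ i) * P pp C * (w₀ pp pm Y)⁻¹ = (t' ≫ i) * P pm (-C) := by
          rw [← ht', mul_inv_eq_iff_eq_mul, _root_.mul_assoc (_ * _⁻¹) (P pm _), ← H.w₀_mul_pp hs,
            _root_.mul_assoc, _root_.mul_assoc, inv_mul_cancel_left]
          exact (_root_.mul_assoc _ _ _).symm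
        rw [hR, hb, e, H.conjM]
        exact ⟨Red.gmFn (t' ≫ α⁻¹) * -C, t', 0, by rw [Cell, P_zero, _root_.mul_one]⟩
  -- the Borel groups
  let jp : T ⊗ Red.Ga S ⟶ (Red.Ga S ⊗ T) ⊗ Red.Ga S := trip 0 (fst _ _) (Red.gaFn (snd T (Red.Ga S)))
  let jm : T ⊗ Red.Ga S ⟶ (Red.Ga S ⊗ T) ⊗ Red.Ga S :=
    trip (Red.gmFn (fst T (Red.Ga S) ≫ α⁻¹) * Red.gaFn (snd T (Red.Ga S))) (fst _ _) 0
  haveI : IsClosedImmersion jp.left := isClosedImmersion_of_retraction jp
    (CartesianMonoidalCategory.lift (fst _ _ ≫ snd _ _) (snd _ _)) (by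
      apply CartesianMonoidalCategory.hom_ext
      · simp [jp, trip]
      · simp only [jp, trip, Category.assoc, lift_snd, Category.id_comp]
        exact (Ga.eq_gaPt _ rfl).symm)
  haveI : IsClosedImmersion jm.left := isClosedImmersion_of_retraction jm
    (CartesianMonoidalCategory.lift (fst _ _ ≫ snd _ _)
      (Ga.gaPt (Red.gmFn ((fst _ _ ≫ snd (Red.Ga S) T) ≫ α) * Red.gaFn (fst (Red.Ga S ⊗ T) (Red.Ga S) ≫ fst _ _)))) (by
      apply CartesianMonoidalCategory.hom_ext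
      · simp [jm, trip]
      · rw [Category.id_comp, Category.assoc, lift_snd]
        refine Ga.gaFn_injective ?_
        rw [Ga.gaFn_comp, Ga.gaFn_gaPt, map_mul, ← Gm.gmFn_comp, ← Ga.gaFn_comp]
        simp only [jm, trip, lift_fst, lift_fst_assoc, lift_snd_assoc, ← Category.assoc, lift_snd,
          Ga.gaFn_gaPt]
        rw [← _root_.mul_assoc, GrpObj.comp_inv, Gm.gmFn_mul_gmFn_inv, _root_.one_mul])
  have ep : (i ⊗ₘ pp) ≫ μ[G] = jp ≫ Φ i pp pm := by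
    rw [trip_Φ, P_zero, _root_.one_mul, ← P_eq, Gm.tensorHom_μ]
  have em : (i ⊗ₘ pm) ≫ μ[G] = jm ≫ Φ i pp pm := by
    rw [trip_Φ, P_zero, _root_.mul_one, ← H.conjM, ← P_eq, Gm.tensorHom_μ]
  have hmiss : ∀ (j : T ⊗ Red.Ga S ⟶ (Red.Ga S ⊗ T) ⊗ Red.Ga S) (M : G ⟶ G),
      (∀ (Y : Over S) (_ : IsAffine Y.left) (_ : Nonempty ↥Y.left) (z : Y ⟶ T ⊗ Red.Ga S) (A : Γ(Y.left, ⊤))
        (B : Y ⟶ T) (C : Γ(Y.left, ⊤)), ¬ Cell i pp pm ((z ≫ j ≫ Φ i pp pm) ≫ M) A B C) →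
      ∀ y, (j ≫ Φ i pp pm ≫ M).left y ∉ Set.range (Φ i pp pm).left := fun j M hno y hy => by
    haveI : IsAffine (ptObj (T ⊗ Red.Ga S) y).left :=
      inferInstanceAs (IsAffine (Spec ((T ⊗ Red.Ga S).left.residueField y)))
    obtain ⟨p', hp'⟩ := mem_range_ptHom (T ⊗ Red.Ga S) y
    haveI : Subsingleton ↥(ptObj (T ⊗ Red.Ga S) y).left :=
      inferInstanceAs (Subsingleton (PrimeSpectrum ((T ⊗ Red.Ga S).left.residueField y)))
    obtain ⟨A, B, C, h⟩ := (H.exists_cell_iff ((ptHom _ y ≫ j ≫ Φ i pp pm) ≫ M)).2 (by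
      rintro _ ⟨r, rfl⟩
      rw [Subsingleton.elim r p']
      rw [← hp'] at hy
      simpa only [Category.assoc, Over.comp_left, Scheme.Hom.comp_apply] using hy)
    exact hno _ inferInstance ⟨p'⟩ _ _ _ _ h
  have hP : IsClosedImmersion ((i ⊗ₘ pp) ≫ μ[G]).left := by
    rw [ep]
    refine isClosedImmersion_of_translate (Φ i pp pm) _ (fun p => (hcov p).1) jp
      (hmiss jp _ fun Y _ hne z A B C h => ?_)
    rw [hL, ← ep, Gm.tensorHom_μ, MonObj.comp_mul, ← Category.assoc, ← Category.assoc z, P_eq pp (z ≫ _)] at h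
    generalize z ≫ fst T (Red.Ga S) = t at h
    generalize Red.gaFn (z ≫ snd T (Red.Ga S)) = x at h
    have h' := H.cell_mul_right (H.cell_mul_right h 1 (-x)) t⁻¹ 0
    rw [GrpObj.inv_comp t i, MonObj.one_comp, P_neg, P_zero, _root_.mul_one, _root_.mul_one] at h'
    simp only [_root_.mul_assoc, mul_inv_cancel_left, mul_inv_cancel, _root_.mul_one] at h'
    exact H.inv_w₀_not_cell hs hne _ _ _ h'
  have hM : IsClosedImmersion ((i ⊗ₘ pm) ≫ μ[G]).left := by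
    rw [em]
    refine isClosedImmersion_of_translate (Φ i pp pm) _ (fun p => (hcov p).2) jm
      (hmiss jm _ fun Y _ hne z A B C h => ?_)
    rw [hR, ← em, Gm.tensorHom_μ, MonObj.comp_mul, ← Category.assoc, ← Category.assoc z, P_eq pm (z ≫ _)] at h
    generalize z ≫ fst T (Red.Ga S) = t at h
    generalize Red.gaFn (z ≫ snd T (Red.Ga S)) = x at h
    have h' := H.cell_left_pm (H.cell_left_T h t⁻¹) (-x)
    rw [GrpObj.inv_comp t i, P_neg] at h'
    simp only [_root_.mul_assoc, inv_mul_cancel_left] at h'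
    exact H.inv_w₀_not_cell hs hne _ _ _ h'
  haveI := hP; haveI := hM
  let e₁ : Red.Ga S ⟶ T ⊗ Red.Ga S := CartesianMonoidalCategory.lift 1 (𝟙 _)
  haveI : IsClosedImmersion e₁.left := isClosedImmersion_of_retraction e₁ (snd _ _) (lift_snd _ _)
  have hcomp : ∀ p : Red.Ga S ⟶ G, IsMonHom p → IsClosedImmersion ((i ⊗ₘ p) ≫ μ[G]).left →
      IsClosedImmersion p.left := fun p hp hc => by
    have e : p = e₁ ≫ ((i ⊗ₘ p) ≫ μ[G]) := by
      rw [Gm.tensorHom_μ, MonObj.comp_mul]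
      simp [e₁, MonObj.one_comp]
    rw [e, Over.comp_left]
    infer_instance
  exact ⟨hcomp pp inferInstance hP, hcomp pm inferInstance hM, hP, hM⟩

end Hyp

end Groth.Agent.H82.BigCell
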