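import Groth.Agent.H82.RankOne2.Transfer

/-!
# Extending homomorphisms from the big cell of a rank-one system
-/

set_option autoImplicit false
set_option linter.style.haveILetI false
set_option linter.unusedSectionVars false
universe u

open CategoryTheory MonoidalCategory CartesianMonoidalCategory MonObj GrpObj AlgebraicGeometry
open Groth.Agent.Lib.RedPts Groth.Agent.Lib.GrpSch
open Groth.Agent.H82.RankOne (P P_eq P_add P_zero P_neg P_comp gmPt_eq gmPt_comp Sys)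

namespace Groth.Agent.H82.BigCell

theorem regroup {M : Type*} [Group M] {A B a h c B' C' a' c' : M} (h1 : B * a = a' * B)
    (h2 : c * B' = B' * c') :
    A * B * (a * h * c) * B' * C' = A * a' * (B * h * B') * (c' * C') := by
  calc A * B * (a * h * c) * B' * C' = A * (B * a) * h * (c * B') * C' := by simp only [_root_.mul_assoc]
    _ = _ := by rw [h1, h2]; simp only [_root_.mul_assoc]

variable {S : Scheme.{u}} {G T : Over S} [GrpObj G] [GrpObj T]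
  {i : T ⟶ G} {α : T ⟶ Red.Gm S} {pp pm : Red.Ga S ⟶ G} {av : Red.Gm S ⟶ T}
  [IsMonHom i] [IsMonHom α] [IsMonHom pp] [IsMonHom pm]

/-- The relations needed to extend `φT`, `φp`, `φm`. -/
structure ExtHyp (α : T ⟶ Red.Gm S) (av : Red.Gm S ⟶ T) {K : Over S} [GrpObj K] (φT : T ⟶ K)
    (φp φm : Red.Ga S ⟶ K) : Prop where
  monT : IsMonHom φT
  monP : IsMonHom φp
  monM : IsMonHom φm
  conjP : ∀ {X : Over S} (t : X ⟶ T) (a : Γ(X.left, ⊤)),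
    (t ≫ φT) * P φp a = P φp (Red.gmFn (t ≫ α) * a) * (t ≫ φT)
  conjM : ∀ {X : Over S} (t : X ⟶ T) (b : Γ(X.left, ⊤)),
    (t ≫ φT) * P φm b = P φm (Red.gmFn (t ≫ α⁻¹) * b) * (t ≫ φT)
  rule : ∀ {X : Over S} (a b : Γ(X.left, ⊤)) (u : Γ(X.left, ⊤)ˣ), (u : Γ(X.left, ⊤)) = 1 + a * b →
    P φp a * P φm b = P φm (b * (↑u⁻¹ : Γ(X.left, ⊤))) * ((Gm.gmPt u ≫ av) ≫ φT) *
      P φp (a * (↑u⁻¹ : Γ(X.left, ⊤)))

/-- The value on the big cell. -/
noncomputable def cellMor {K : Over S} [GrpObj K] (φT : T ⟶ K) (φp φm : Red.Ga S ⟶ K) :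
    (Red.Ga S ⊗ T) ⊗ Red.Ga S ⟶ K :=
  (fst _ _ ≫ fst _ _ ≫ φm) * (fst _ _ ≫ snd _ _ ≫ φT) * (snd _ _ ≫ φp)

theorem trip_cellMor {K : Over S} [GrpObj K] (φT : T ⟶ K) (φp φm : Red.Ga S ⟶ K) {X : Over S}
    (A : Γ(X.left, ⊤)) (B : X ⟶ T) (C : Γ(X.left, ⊤)) :
    trip A B C ≫ cellMor φT φp φm = P φm A * (B ≫ φT) * P φp C := by
  simp [cellMor, trip, MonObj.comp_mul, P]

theorem exists_trip {X : Over S} (z : X ⟶ (Red.Ga S ⊗ T) ⊗ Red.Ga S) :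
    ∃ A B C, z = trip A B C := by
  refine ⟨Red.gaFn (z ≫ fst _ _ ≫ fst _ _), z ≫ fst _ _ ≫ snd _ _, Red.gaFn (z ≫ snd _ _), ?_⟩
  apply CartesianMonoidalCategory.hom_ext
  · apply CartesianMonoidalCategory.hom_ext
    · simp only [trip, lift_fst, Category.assoc]
      exact Ga.eq_gaPt _ rfl
    · simp [trip]
  · simp only [trip, lift_snd]
    exact Ga.eq_gaPt _ rfl

namespace Hyp

variable (H : Hyp i α pp pm) (hs : Sys i α pp pm av)
include H hs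

theorem bruhat_mul_pm {X : Over S} {g : X ⟶ G} (hg : InBruhat i pp pm g) :
    ∃ C : Γ(X.left, ⊤), ∀ {X' : Over S} (c : X' ⟶ X) (s K : Γ(X'.left, ⊤)ˣ),
      (K : Γ(X'.left, ⊤)) = 1 + c.left.appTop C * (s : Γ(X'.left, ⊤)) →
        ∃ A' B' C', Cell i pp pm ((c ≫ g) * P pm (s : Γ(X'.left, ⊤))) A' B' C' := by
  rcases hg with ⟨A, B, C, hg⟩ | ⟨t, C, hg⟩
  · refine ⟨C, fun {X'} c s K hK => ?_⟩
    have h := cell_comp c hg
    rw [Cell] at h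
    have hr : Cell i pp pm (P pp (c.left.appTop C) * P pm (s : Γ(X'.left, ⊤))) ((s : Γ(X'.left, ⊤)) * (↑K⁻¹ : Γ(X'.left, ⊤)))
        (Gm.gmPt K ≫ av) (c.left.appTop C * (↑K⁻¹ : Γ(X'.left, ⊤))) := by
      rw [Cell, hs.rule _ _ K hK, Category.assoc]
    have h' := H.cell_left_pm (H.cell_left_T hr (c ≫ B)) (c.left.appTop A)
    rw [← _root_.mul_assoc, ← _root_.mul_assoc, ← h] at h'
    exact ⟨_, _, _, h'⟩
  · refine ⟨C, fun {X'} c s K hK => ?_⟩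
    have hb := congrArg (c ≫ ·) hg
    simp only [MonObj.comp_mul, P_comp, w₀_comp, ← Category.assoc] at hb
    obtain ⟨a, ha⟩ : IsUnit (Red.gmFn ((c ≫ t) ≫ α⁻¹) * ((s : Γ(X'.left, ⊤)) * (↑K⁻¹ : Γ(X'.left, ⊤)))) :=
      (Gm.isUnit_gmFn _).mul (s.isUnit.mul (Units.isUnit _))
    have e1 : (c ≫ g) * P pm (s : Γ(X'.left, ⊤)) = w₀ pp pm X' * P pm (a : Γ(X'.left, ⊤)) *
        (((c ≫ t) * (Gm.gmPt K ≫ av)) ≫ i) * P pp (c.left.appTop C * (↑K⁻¹ : Γ(X'.left, ⊤))) := by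
      rw [hb, _root_.mul_assoc _ (P pp _) (P pm _), hs.rule _ _ K hK, ha, MonObj.mul_comp, Category.assoc (Gm.gmPt K)]
      have h1 := H.conjM (c ≫ t) ((s : Γ(X'.left, ⊤)) * (↑K⁻¹ : Γ(X'.left, ⊤)))
      simp only [← _root_.mul_assoc]
      rw [_root_.mul_assoc _ ((c ≫ t) ≫ i) (P pm _), h1]
      simp only [_root_.mul_assoc]
    have hw : Cell i pp pm (w₀ pp pm X' * P pm (a : Γ(X'.left, ⊤))) (-1 + ((a : Γ(X'.left, ⊤)) - 1) * (↑a⁻¹ : Γ(X'.left, ⊤)))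
        (Gm.gmPt a ≫ av) ((1 : Γ(X'.left, ⊤)) * (↑a⁻¹ : Γ(X'.left, ⊤))) := by
      have hr : Cell i pp pm (P pp (1 : Γ(X'.left, ⊤)) * P pm ((a : Γ(X'.left, ⊤)) - 1))
          (((a : Γ(X'.left, ⊤)) - 1) * (↑a⁻¹ : Γ(X'.left, ⊤))) (Gm.gmPt a ≫ av)
          ((1 : Γ(X'.left, ⊤)) * (↑a⁻¹ : Γ(X'.left, ⊤))) := by
        rw [Cell, hs.rule _ _ a (by ring), Category.assoc]
      have h2 := H.cell_left_pm hr (-1)
      have e2 : w₀ pp pm X' = P pm (-1) * P pp 1 * P pm (-1) := by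
        rw [w₀, ← hs.W_symm (1 : Γ(X'.left, ⊤)ˣ)]
        simp [Sys.W]
      rw [e2, _root_.mul_assoc _ (P pm (-1)) (P pm _), ← P_add, neg_add_eq_sub, _root_.mul_assoc]
      exact h2
    rw [e1]
    exact ⟨_, _, _, H.cell_mul_right hw _ _⟩

section Ext

variable {K : Over S} [GrpObj K] {φT : T ⟶ K} {φp φm : Red.Ga S ⟶ K} (E : ExtHyp α av φT φp φm)
include E

theorem φd_trip_one {X : Over S} : trip (0 : Γ(X.left, ⊤)) (1 : X ⟶ T) 0 ≫ cellMor φT φp φm = 1 := by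
  haveI := E.monT; haveI := E.monP; haveI := E.monM
  rw [trip_cellMor, P_zero, P_zero, MonObj.one_comp, _root_.one_mul, _root_.one_mul]

/-- The value on the cell is multiplicative. -/
theorem φd_mul {X : Over S} (z₁ z₂ z₃ : X ⟶ (Red.Ga S ⊗ T) ⊗ Red.Ga S)
    (h : (z₁ ≫ Φ i pp pm) * (z₂ ≫ Φ i pp pm) = z₃ ≫ Φ i pp pm) :
    (z₁ ≫ cellMor φT φp φm) * (z₂ ≫ cellMor φT φp φm) = z₃ ≫ cellMor φT φp φm := by
  haveI := E.monT; haveI := E.monP; haveI := E.monM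
  obtain ⟨A, B, C, rfl⟩ := exists_trip z₁
  obtain ⟨A', B', C', rfl⟩ := exists_trip z₂
  obtain ⟨A'', B'', C'', rfl⟩ := exists_trip z₃
  rw [trip_Φ, trip_Φ, trip_Φ] at h
  obtain ⟨u, hu⟩ : IsUnit (1 + C * A') := isUnit_of_points _ fun p => by
    rw [map_add, map_one, map_mul]
    haveI : IsAffine (ptObj X p).left := inferInstanceAs (IsAffine (Spec (X.left.residueField p)))
    have hk := isField_ptObj X p
    refine FEq.isUnit_of_ne_zero _ hk fun h0 => ?_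
    obtain ⟨p', -⟩ := mem_range_ptHom X p
    have hh := congrArg (ptHom X p ≫ ·) h
    simp only [MonObj.comp_mul, P_comp, ← Category.assoc] at hh
    revert h0 hh
    generalize (ptHom X p).left.appTop A = a
    generalize ptHom X p ≫ B = b
    generalize (ptHom X p).left.appTop C = c
    generalize (ptHom X p).left.appTop A' = a'
    generalize ptHom X p ≫ B' = b'
    generalize (ptHom X p).left.appTop C' = c'
    intro h0 hh
    obtain ⟨v, hv⟩ : IsUnit c := IsUnit.of_mul_eq_one (-a') (by linear_combination -h0)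
    have ha' : a' = -(↑v⁻¹ : Γ((ptObj X p).left, ⊤)) := by
      linear_combination (↑v⁻¹ : Γ((ptObj X p).left, ⊤)) * h0 - a' * v.inv_mul +
        ((↑v⁻¹ : Γ((ptObj X p).left, ⊤)) * a') * hv
    have e1 : P pp c * P pm a' = w₀ pp pm (ptObj X p) * ((Gm.gmPt v⁻¹ ≫ av) ≫ i) * P pp (-c) := by
      rw [Category.assoc, ← H.w₀_mul_H hs, ha', ← hv, P_neg pp (v : Γ((ptObj X p).left, ⊤)), Sys.W, mul_inv_cancel_right]
    let r : ptObj X p ⟶ T := Gm.gmPt v⁻¹ ≫ av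
    let x₁ := Red.gmFn (b' ≫ α⁻¹) * (-c) + c'
    have e2 : w₀ pp pm (ptObj X p) = (b⁻¹ ≫ i) * (P pm (-a) *
        ((P pm (ptHom X p |>.left.appTop A'') * (ptHom X p ≫ B'') ≫ i * P pp ((ptHom X p).left.appTop C'')) *
          ((1 : ptObj X p ⟶ T) ≫ i) * P pp (-x₁))) * ((r * b')⁻¹ ≫ i) * P pp 0 := by
      rw [P_zero, _root_.mul_one, MonObj.one_comp, _root_.mul_one, ← hh, GrpObj.inv_comp _ i, GrpObj.inv_comp _ i,
        P_neg, P_neg, MonObj.mul_comp _ _ i]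
      have : P pp c * P pm a' * (b' ≫ i) * P pp c' = w₀ pp pm (ptObj X p) * (r ≫ i) * (b' ≫ i) * P pp x₁ := by
        rw [e1, _root_.mul_assoc _ (P pp (-c)) (b' ≫ i), H.P_mul_B, P_add]
        simp only [r, _root_.mul_assoc]
      calc w₀ pp pm (ptObj X p)
          = (b ≫ i)⁻¹ * ((P pm a)⁻¹ * ((P pm a * (b ≫ i) *
              (P pp c * P pm a' * (b' ≫ i) * P pp c')) * (P pp x₁)⁻¹)) * ((r ≫ i) * (b' ≫ i))⁻¹ := by
            rw [this]; group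
        _ = _ := by group
    have hc := H.cell_mul_right (H.cell_left_T (H.cell_left_pm (H.cell_mul_right
      (H.cell_pt ((ptHom X p).left.appTop A'') (ptHom X p ≫ B'') ((ptHom X p).left.appTop C''))
      1 (-x₁)) (-a)) b⁻¹) (r * b')⁻¹ 0
    rw [← e2] at hc
    exact H.w₀_not_cell hs ⟨p'⟩ _ _ _ hc
  have hG := regroup (A := P pm A) (B := B ≫ i) (a := P pm (A' * (↑u⁻¹ : Γ(X.left, ⊤))))
    (h := (Gm.gmPt u ≫ av) ≫ i) (c := P pp (C * (↑u⁻¹ : Γ(X.left, ⊤)))) (B' := B' ≫ i) (C' := P pp C')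
    (H.conjM B _) (H.P_mul_B _ B')
  rw [← P_add, ← P_add, ← MonObj.mul_comp _ _ i, ← MonObj.mul_comp _ _ i] at hG
  have hr := hs.rule C A' u hu
  rw [← Category.assoc] at hr
  have h' : P pm A * (B ≫ i) * (P pp C * P pm A') * (B' ≫ i) * P pp C' =
      P pm A'' * (B'' ≫ i) * P pp C'' := by rw [← h]; simp only [_root_.mul_assoc]
  rw [hr, hG] at h'
  obtain ⟨eA, eB, eC⟩ := H.unique (f := P pm A'' * (B'' ≫ i) * P pp C'') h'.symm rfl
  have hPB : P φp (C * (↑u⁻¹ : Γ(X.left, ⊤))) * (B' ≫ φT) =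
      (B' ≫ φT) * P φp (Red.gmFn (B' ≫ α⁻¹) * (C * (↑u⁻¹ : Γ(X.left, ⊤)))) := by
    have h := E.conjP B'⁻¹ (C * (↑u⁻¹ : Γ(X.left, ⊤)))
    rw [H.inv_α, GrpObj.inv_comp B' φT] at h
    rw [eq_mul_inv_iff_mul_eq, _root_.mul_assoc, inv_mul_eq_iff_eq_mul] at h
    exact h
  have hK := regroup (A := P φm A) (B := B ≫ φT) (a := P φm (A' * (↑u⁻¹ : Γ(X.left, ⊤))))
    (h := (Gm.gmPt u ≫ av) ≫ φT) (c := P φp (C * (↑u⁻¹ : Γ(X.left, ⊤)))) (B' := B' ≫ φT) (C' := P φp C')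
    (E.conjM B _) hPB
  subst eA eB eC
  rw [← P_add, ← P_add, ← MonObj.mul_comp _ _ φT, ← MonObj.mul_comp _ _ φT, ← E.rule C A' u hu] at hK
  rw [trip_cellMor, trip_cellMor, trip_cellMor, ← hK]
  simp only [_root_.mul_assoc]

theorem flat_Ga : Flat (Red.Ga S).hom := by
  haveI := smooth_Ga S
  infer_instance

theorem epi_of_open {X : Over S} (O : (X ⊗ Red.Ga S).left.Opens)
    (h : ∀ p : X.left, ∃ q ∈ O, (fst X (Red.Ga S)).left q = p) :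
    Epi (O.ι ≫ (fst X (Red.Ga S)).left) := by
  haveI : Flat (fst X (Red.Ga S)).left := fst_left_of (P := @Flat) X (H.flat_Ga hs E)
  haveI : Surjective (O.ι ≫ (fst X (Red.Ga S)).left) := ⟨fun p => by
    obtain ⟨q, hq, hqp⟩ := h p
    exact ⟨⟨q, hq⟩, hqp⟩⟩
  exact Flat.epi_of_flat_of_surjective _

theorem exists_bruhat_three (hG : Red.IsReductive G) (Y : Over S) [IsAffine Y.left]
    (hk : IsField Γ(Y.left, ⊤)) (g₁ g₂ g₃ : Y ⟶ G) :
    ∃ (Y' : Over S) (c : Y' ⟶ Y), IsAffine Y'.left ∧ Surjective c.left ∧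
      ∃ C₁ C₂ C₃ : Γ(Y'.left, ⊤), ∀ {X' : Over S} (d : X' ⟶ Y') (s K₁ K₂ K₃ : Γ(X'.left, ⊤)ˣ),
        (K₁ : Γ(X'.left, ⊤)) = 1 + d.left.appTop C₁ * (s : Γ(X'.left, ⊤)) →
        (K₂ : Γ(X'.left, ⊤)) = 1 + d.left.appTop C₂ * (s : Γ(X'.left, ⊤)) →
        (K₃ : Γ(X'.left, ⊤)) = 1 + d.left.appTop C₃ * (s : Γ(X'.left, ⊤)) →
        (∃ A B C, Cell i pp pm ((d ≫ c ≫ g₁) * P pm (s : Γ(X'.left, ⊤))) A B C) ∧
        (∃ A B C, Cell i pp pm ((d ≫ c ≫ g₂) * P pm (s : Γ(X'.left, ⊤))) A B C) ∧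
        (∃ A B C, Cell i pp pm ((d ≫ c ≫ g₃) * P pm (s : Γ(X'.left, ⊤))) A B C) := by
  obtain ⟨Y₁, c₁, hY₁, hk₁, hc₁, hb₁⟩ := H.exists_inBruhat hs hG Y hk g₁
  obtain ⟨Y₂, c₂, hY₂, hk₂, hc₂, hb₂⟩ := H.exists_inBruhat hs hG Y₁ hk₁ (c₁ ≫ g₂)
  obtain ⟨Y₃, c₃, hY₃, -, hc₃, hb₃⟩ := H.exists_inBruhat hs hG Y₂ hk₂ ((c₂ ≫ c₁) ≫ g₃)
  obtain ⟨C₁, h₁⟩ := H.bruhat_mul_pm hs hb₁
  obtain ⟨C₂, h₂⟩ := H.bruhat_mul_pm hs hb₂
  obtain ⟨C₃, h₃⟩ := H.bruhat_mul_pm hs hb₃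
  refine ⟨Y₃, c₃ ≫ c₂ ≫ c₁, hY₃, by rw [Over.comp_left, Over.comp_left]; infer_instance,
    (c₃ ≫ c₂).left.appTop C₁, c₃.left.appTop C₂, C₃, fun {X'} d s K₁ K₂ K₃ e₁ e₂ e₃ => ⟨?_, ?_, ?_⟩⟩
  · have := h₁ (d ≫ c₃ ≫ c₂) s K₁ (by
      rw [e₁]
      simp only [Over.comp_left, Scheme.Hom.comp_appTop, CommRingCat.comp_apply])
    simpa using this
  · have := h₂ (d ≫ c₃) s K₂ (by
      rw [e₂]
      simp only [Over.comp_left, Scheme.Hom.comp_appTop, CommRingCat.comp_apply])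
    simpa using this
  · have := h₃ d s K₃ e₃
    simpa using this

/-- The value on pairs of cells descends. -/
theorem agree (hG : Red.IsReductive G) {X : Over S} (a₁ b₁ a₂ b₂ : X ⟶ (Red.Ga S ⊗ T) ⊗ Red.Ga S)
    (h : (a₁ ≫ Φ i pp pm) * (b₁ ≫ Φ i pp pm) = (a₂ ≫ Φ i pp pm) * (b₂ ≫ Φ i pp pm)) :
    (a₁ ≫ cellMor φT φp φm) * (b₁ ≫ cellMor φT φp φm) =
      (a₂ ≫ cellMor φT φp φm) * (b₂ ≫ cellMor φT φp φm) := by
  haveI := H.openImm
  let W : Over S := X ⊗ Red.Ga S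
  let p₀ : W ⟶ X := fst _ _
  let s₀ : Γ(W.left, ⊤) := Red.gaFn (snd X (Red.Ga S))
  let g₁ : W ⟶ G := (p₀ ≫ b₁ ≫ Φ i pp pm) * P pm s₀
  let g₂ : W ⟶ G := (p₀ ≫ b₂ ≫ Φ i pp pm) * P pm s₀
  let g₃ : W ⟶ G := (p₀ ≫ ((a₁ ≫ Φ i pp pm) * (b₁ ≫ Φ i pp pm))) * P pm s₀
  let R := (Φ i pp pm).left.opensRange
  let O : W.left.Opens := g₁.left ⁻¹ᵁ R ⊓ g₂.left ⁻¹ᵁ R ⊓ g₃.left ⁻¹ᵁ R
  have hsurj : ∀ p : X.left, ∃ q ∈ O, p₀.left q = p := fun p => by
    haveI : IsAffine (ptObj X p).left := inferInstanceAs (IsAffine (Spec (X.left.residueField p)))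
    obtain ⟨Y, c, hY, hc, C₁, C₂, C₃, hC⟩ := H.exists_bruhat_three hs E hG (ptObj X p) (isField_ptObj X p)
      (ptHom X p ≫ b₁ ≫ Φ i pp pm) (ptHom X p ≫ b₂ ≫ Φ i pp pm)
      (ptHom X p ≫ ((a₁ ≫ Φ i pp pm) * (b₁ ≫ Φ i pp pm)))
    haveI := hY
    obtain ⟨X', d, t, hX', -, hd, hu, -⟩ := exists_generic Y
      ![Polynomial.X, 1 + Polynomial.C C₁ * Polynomial.X, 1 + Polynomial.C C₂ * Polynomial.X,
        1 + Polynomial.C C₃ * Polynomial.X]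
      (fun k => by
        fin_cases k
        · exact ⟨1, by simp⟩
        all_goals exact ⟨0, by simp⟩)
    have h0 := hu 0; have h1 := hu 1; have h2 := hu 2; have h3 := hu 3
    simp at h0 h1 h2 h3
    obtain ⟨s, rfl⟩ := h0
    obtain ⟨K₁, e₁⟩ := h1
    obtain ⟨K₂, e₂⟩ := h2
    obtain ⟨K₃, e₃⟩ := h3
    obtain ⟨k₁, k₂, k₃⟩ := hC d s K₁ K₂ K₃ e₁ e₂ e₃
    let pt : X' ⟶ W := CartesianMonoidalCategory.lift (d ≫ c ≫ ptHom X p) (Ga.gaPt (s : Γ(X'.left, ⊤)))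
    have hp₀ : pt ≫ p₀ = d ≫ c ≫ ptHom X p := lift_fst _ _
    have hs₀ : pt.left.appTop s₀ = (s : Γ(X'.left, ⊤)) := by
      rw [← Ga.gaFn_comp, lift_snd, Ga.gaFn_gaPt]
    have hg : ∀ z : X ⟶ G, (∃ A B C, Cell i pp pm ((d ≫ c ≫ ptHom X p ≫ z) * P pm (s : Γ(X'.left, ⊤))) A B C) →
        Set.range (pt ≫ ((p₀ ≫ z) * P pm s₀)).left ⊆ Set.range (Φ i pp pm).left := fun z hz => by
      rw [← H.exists_cell_iff, MonObj.comp_mul, P_comp, hs₀, ← Category.assoc, hp₀]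
      simpa only [Category.assoc] using hz
    obtain ⟨p', hp'⟩ := mem_range_ptHom X p
    obtain ⟨q₁, hq₁⟩ := c.left.surjective p'
    obtain ⟨q₂, hq₂⟩ := d.left.surjective q₁
    refine ⟨pt.left q₂, ⟨⟨hg _ k₁ ⟨q₂, rfl⟩, hg _ k₂ ⟨q₂, rfl⟩⟩, hg _ k₃ ⟨q₂, rfl⟩⟩, ?_⟩
    rw [← Scheme.Hom.comp_apply, ← Over.comp_left, hp₀, Over.comp_left, Over.comp_left,
      Scheme.Hom.comp_apply, Scheme.Hom.comp_apply, hq₂, hq₁, hp']
  let V : Over S := Over.mk (O.ι ≫ W.hom)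
  let j : V ⟶ W := Over.homMk O.ι rfl
  have hepi : Epi (j ≫ p₀).left := H.epi_of_open hs E O hsurj
  refine RankOne.eq_of_epi hepi ?_
  have hr : ∀ g : W ⟶ G, O ≤ g.left ⁻¹ᵁ R →
      ∃ z, z ≫ Φ i pp pm = j ≫ g := fun g hg => by
    obtain ⟨A, B, C, hc⟩ := (H.exists_cell_iff (j ≫ g)).2 (by
      rintro _ ⟨q, rfl⟩
      exact hg q.2)
    exact ⟨trip A B C, (trip_Φ i pp pm A B C).trans hc.symm⟩
  obtain ⟨e₁, he₁⟩ := hr g₁ (inf_le_left.trans inf_le_left)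
  obtain ⟨e₂, he₂⟩ := hr g₂ (inf_le_left.trans inf_le_right)
  obtain ⟨e₃, he₃⟩ := hr g₃ inf_le_right
  simp only [g₁, g₂, g₃, MonObj.comp_mul, P_comp] at he₁ he₂ he₃
  rw [← Category.assoc j p₀, ← Category.assoc (j ≫ p₀) b₁] at he₁
  rw [← Category.assoc j p₀, ← Category.assoc (j ≫ p₀) b₂] at he₂
  rw [← Category.assoc j p₀, ← Category.assoc (j ≫ p₀) a₁, ← Category.assoc j p₀,
    ← Category.assoc (j ≫ p₀) b₁] at he₃
  rw [MonObj.comp_mul, MonObj.comp_mul, ← Category.assoc (j ≫ p₀) a₁, ← Category.assoc (j ≫ p₀) b₁,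
    ← Category.assoc (j ≫ p₀) a₂, ← Category.assoc (j ≫ p₀) b₂]
  generalize hs₁ : j.left.appTop s₀ = s at he₁ he₂ he₃
  let hh : V ⟶ (Red.Ga S ⊗ T) ⊗ Red.Ga S := trip s 1 0
  have hhΦ : hh ≫ Φ i pp pm = P pm s := by
    rw [trip_Φ, P_zero, MonObj.one_comp, _root_.mul_one, _root_.mul_one]
  rw [← hhΦ] at he₁ he₂ he₃
  have hcell := congrArg ((j ≫ p₀) ≫ ·) h
  rw [MonObj.comp_mul, MonObj.comp_mul, ← Category.assoc (j ≫ p₀) a₁, ← Category.assoc (j ≫ p₀) b₁,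
    ← Category.assoc (j ≫ p₀) a₂, ← Category.assoc (j ≫ p₀) b₂] at hcell
  refine mul_right_cancel (b := hh ≫ cellMor φT φp φm) ?_
  rw [_root_.mul_assoc, _root_.mul_assoc, H.φd_mul hs E _ hh e₁ he₁.symm, H.φd_mul hs E _ hh e₂ he₂.symm,
    H.φd_mul hs E _ e₁ e₃ (by rw [he₁, he₃, _root_.mul_assoc]),
    H.φd_mul hs E _ e₂ e₃ (by rw [he₂, he₃, hcell, _root_.mul_assoc])]

theorem exists_cells (hG : Red.IsReductive G) {X : Over S} (g : X ⟶ G) :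
    ∃ (X' : Over S) (c : X' ⟶ X) (a b : X' ⟶ (Red.Ga S ⊗ T) ⊗ Red.Ga S),
      Epi c.left ∧ c ≫ g = (a ≫ Φ i pp pm) * (b ≫ Φ i pp pm) := by
  have hflat := (H.cellProd_flat_lfp hs hG).1
  haveI := H.cellProd_surjective hs hG
  let W : Over S := Over.mk (Limits.pullback.fst g.left (H.cellProd hs).left ≫ X.hom)
  let c : W ⟶ X := Over.homMk (Limits.pullback.fst g.left (H.cellProd hs).left) rfl
  let d : W ⟶ H.dom2 hs := Over.homMk (Limits.pullback.snd g.left (H.cellProd hs).left) (by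
    change _ = Limits.pullback.fst g.left (H.cellProd hs).left ≫ X.hom
    rw [← Over.w g, Limits.pullback.condition_assoc, Over.w (H.cellProd hs)])
  haveI : Flat (Limits.pullback.fst g.left (H.cellProd hs).left) :=
    MorphismProperty.of_isPullback (P := @Flat) (IsPullback.of_hasPullback _ _).flip hflat
  haveI : Surjective (Limits.pullback.fst g.left (H.cellProd hs).left) :=
    MorphismProperty.of_isPullback (P := @Surjective) (IsPullback.of_hasPullback _ _).flip inferInstance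
  refine ⟨W, c, d ≫ fst _ _, d ≫ snd _ _,
    Flat.epi_of_flat_of_surjective (Limits.pullback.fst g.left (H.cellProd hs).left), ?_⟩
  rw [show c ≫ g = d ≫ H.cellProd hs from Over.OverMorphism.ext (Limits.pullback.condition),
    Hom.mul_def, Category.assoc, Category.assoc, ← comp_lift_assoc, ← lift_map]
  simp [cellProd]

omit E in
theorem cellProd_eq {X : Over S} (z : X ⟶ H.dom2 hs) :
    z ≫ H.cellProd hs = (z ≫ fst _ _ ≫ Φ i pp pm) * (z ≫ snd _ _ ≫ Φ i pp pm) := by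
  rw [Hom.mul_def, ← comp_lift_assoc, ← lift_map]
  simp [cellProd]

/-- The homomorphism extending `φT`, `φp`, `φm`. -/
theorem exists_extension (hG : Red.IsReductive G) :
    ∃ f : G ⟶ K, IsMonHom f ∧ i ≫ f = φT ∧ pp ≫ f = φp ∧ pm ≫ f = φm := by
  haveI := E.monT; haveI := E.monP; haveI := E.monM
  haveI := H.openImm
  obtain ⟨hfl, hfp⟩ := H.cellProd_flat_lfp hs hG
  haveI := hfl; haveI := hfp; haveI := H.cellProd_surjective hs hG
  let φ₂ : H.dom2 hs ⟶ K := (fst _ _ ≫ cellMor φT φp φm) * (snd _ _ ≫ cellMor φT φp φm)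
  have hdesc : ∀ {Z : Scheme.{u}} (g₁ g₂ : Z ⟶ (H.dom2 hs).left),
      g₁ ≫ (H.cellProd hs).left = g₂ ≫ (H.cellProd hs).left → g₁ ≫ φ₂.left = g₂ ≫ φ₂.left := fun {Z} g₁ g₂ hg => by
    let X : Over S := Over.mk (g₁ ≫ (H.dom2 hs).hom)
    let z₁ : X ⟶ H.dom2 hs := Over.homMk g₁ rfl
    let z₂ : X ⟶ H.dom2 hs := Over.homMk g₂ (by
      change g₂ ≫ _ = g₁ ≫ (H.dom2 hs).hom
      rw [← Over.w (H.cellProd hs), reassoc_of% hg])
    have hz : z₁ ≫ H.cellProd hs = z₂ ≫ H.cellProd hs := Over.OverMorphism.ext hg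
    rw [H.cellProd_eq hs, H.cellProd_eq hs] at hz
    simp only [← Category.assoc] at hz
    have := H.agree hs E hG _ _ _ _ hz
    simp only [Category.assoc, ← MonObj.comp_mul] at this
    exact congrArg Over.Hom.left this
  let d : G.left ⟶ K.left := EffectiveEpi.desc (H.cellProd hs).left φ₂.left hdesc
  let f : G ⟶ K := Over.homMk d (by
    haveI : Epi (H.cellProd hs).left := inferInstance
    rw [← cancel_epi (H.cellProd hs).left, ← Category.assoc]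
    refine (congrArg (· ≫ K.hom) (EffectiveEpi.fac (H.cellProd hs).left φ₂.left hdesc)).trans ?_
    rw [Over.w φ₂, Over.w (H.cellProd hs)])
  have hfac : H.cellProd hs ≫ f = φ₂ := Over.OverMorphism.ext (EffectiveEpi.fac (H.cellProd hs).left φ₂.left hdesc)
  have hpair : ∀ {X : Over S} (a b : X ⟶ (Red.Ga S ⊗ T) ⊗ Red.Ga S),
      ((a ≫ Φ i pp pm) * (b ≫ Φ i pp pm)) ≫ f = (a ≫ cellMor φT φp φm) * (b ≫ cellMor φT φp φm) := by
    intro X a b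
    have e : (a ≫ Φ i pp pm) * (b ≫ Φ i pp pm) = CartesianMonoidalCategory.lift a b ≫ H.cellProd hs := by
      rw [H.cellProd_eq hs]; simp
    rw [e, Category.assoc, hfac]
    simp only [φ₂, MonObj.comp_mul, lift_fst_assoc, lift_snd_assoc]
  have h1Φ : ∀ {X : Over S}, trip (0 : Γ(X.left, ⊤)) (1 : X ⟶ T) 0 ≫ Φ i pp pm = 1 := fun {X} => by
    rw [trip_Φ, P_zero, P_zero, MonObj.one_comp, _root_.one_mul, _root_.one_mul]
  have hone : ∀ {X : Over S} (a : X ⟶ (Red.Ga S ⊗ T) ⊗ Red.Ga S),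
      (a ≫ Φ i pp pm) ≫ f = a ≫ cellMor φT φp φm := by
    intro X a
    have h := hpair a (trip 0 1 0)
    rwa [h1Φ, _root_.mul_one, H.φd_trip_one hs E, _root_.mul_one] at h
  -- right multiplication by cells
  have hsafe : ∀ {X : Over S} (a b e : X ⟶ (Red.Ga S ⊗ T) ⊗ Red.Ga S),
      (∃ A B C, Cell i pp pm ((b ≫ Φ i pp pm) * (e ≫ Φ i pp pm)) A B C) →
      ((a ≫ Φ i pp pm) * (b ≫ Φ i pp pm) * (e ≫ Φ i pp pm)) ≫ f =
        (a ≫ cellMor φT φp φm) * (b ≫ cellMor φT φp φm) * (e ≫ cellMor φT φp φm) := by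
    rintro X a b e ⟨A, B, C, h⟩
    rw [Cell, ← trip_Φ] at h
    rw [_root_.mul_assoc, h, hpair, ← H.φd_mul hs E _ _ _ h, _root_.mul_assoc]
  have hppΦ : ∀ {X : Over S} (x : Γ(X.left, ⊤)), trip (0 : Γ(X.left, ⊤)) (1 : X ⟶ T) x ≫ Φ i pp pm = P pp x :=
    fun {X} x => by rw [trip_Φ, P_zero, MonObj.one_comp, _root_.one_mul, _root_.one_mul]
  have hpmΦ : ∀ {X : Over S} (x : Γ(X.left, ⊤)), trip x (1 : X ⟶ T) (0 : Γ(X.left, ⊤)) ≫ Φ i pp pm = P pm x :=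
    fun {X} x => by rw [trip_Φ, P_zero, MonObj.one_comp, _root_.mul_one, _root_.mul_one]
  have hppφ : ∀ {X : Over S} (x : Γ(X.left, ⊤)),
      trip (0 : Γ(X.left, ⊤)) (1 : X ⟶ T) x ≫ cellMor φT φp φm = P φp x := fun {X} x => by
    rw [trip_cellMor, P_zero, MonObj.one_comp, _root_.one_mul, _root_.one_mul]
  have hpmφ : ∀ {X : Over S} (x : Γ(X.left, ⊤)),
      trip x (1 : X ⟶ T) (0 : Γ(X.left, ⊤)) ≫ cellMor φT φp φm = P φm x := fun {X} x => by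
    rw [trip_cellMor, P_zero, MonObj.one_comp, _root_.mul_one, _root_.mul_one]
  have hTΦ : ∀ {X : Over S} (t : X ⟶ T), trip (0 : Γ(X.left, ⊤)) t (0 : Γ(X.left, ⊤)) ≫ Φ i pp pm = t ≫ i :=
    fun {X} t => by rw [trip_Φ, P_zero, P_zero, _root_.one_mul, _root_.mul_one]
  have hTφ : ∀ {X : Over S} (t : X ⟶ T),
      trip (0 : Γ(X.left, ⊤)) t (0 : Γ(X.left, ⊤)) ≫ cellMor φT φp φm = t ≫ φT := fun {X} t => by
    rw [trip_cellMor, P_zero, P_zero, _root_.one_mul, _root_.mul_one]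
  -- right multiplication by `pm`
  have hpm3 : ∀ {X : Over S} (a b : X ⟶ (Red.Ga S ⊗ T) ⊗ Red.Ga S) (y : Γ(X.left, ⊤)),
      ((a ≫ Φ i pp pm) * (b ≫ Φ i pp pm) * P pm y) ≫ f =
        (a ≫ cellMor φT φp φm) * (b ≫ cellMor φT φp φm) * P φm y := by
    intro X a b y
    let W : Over S := X ⊗ Red.Ga S
    let p₀ : W ⟶ X := fst _ _
    let x₀ : Γ(W.left, ⊤) := Red.gaFn (snd X (Red.Ga S))
    let g₁ : W ⟶ G := P pp (-x₀) * (p₀ ≫ b ≫ Φ i pp pm)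
    let g₂ : W ⟶ G := P pp (-x₀) * (p₀ ≫ b ≫ Φ i pp pm) * P pm (p₀.left.appTop y)
    let R := (Φ i pp pm).left.opensRange
    let O : W.left.Opens := g₁.left ⁻¹ᵁ R ⊓ g₂.left ⁻¹ᵁ R
    have hsurj : ∀ p : X.left, ∃ q ∈ O, p₀.left q = p := fun p => by
      haveI : IsAffine (ptObj X p).left := inferInstanceAs (IsAffine (Spec (X.left.residueField p)))
      have hk := isField_ptObj X p
      obtain ⟨A, B, C, hb⟩ : ∃ A B C, Cell i pp pm (ptHom X p ≫ b ≫ Φ i pp pm) A B C := by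
        rw [H.exists_cell_iff]
        rintro _ ⟨q, rfl⟩
        exact ⟨(ptHom X p ≫ b).left q, rfl⟩
      let y' := (ptHom X p).left.appTop y
      let β := Red.gmFn (B ≫ α⁻¹)
      let Q : Polynomial Γ((ptObj X p).left, ⊤) :=
        Polynomial.C (1 + C * y') * (1 - Polynomial.C A * Polynomial.X) - Polynomial.C (β * y') * Polynomial.X
      have hQ : ∃ n, IsUnit (Q.coeff n) := by
        by_cases h0 : 1 + C * y' = 0
        · refine ⟨1, ?_⟩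
          have e : Q.coeff 1 = -(β * y') := by simp [Q, h0]
          rw [e]
          exact ((Gm.isUnit_gmFn _).mul (IsUnit.of_mul_eq_one (-C) (by linear_combination -h0))).neg
        · exact ⟨0, by simpa [Q, Polynomial.coeff_one] using FEq.isUnit_of_ne_zero _ hk h0⟩
      obtain ⟨X', d, x, hX', -, hd, hu, -⟩ := exists_generic (ptObj X p)
        ![1 - Polynomial.C A * Polynomial.X, Q]
        (fun k => by
          fin_cases k
          · exact ⟨0, by simp⟩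
          · exact hQ)
      have h0 := hu 0; have h1 := hu 1
      simp [Q] at h0 h1
      obtain ⟨k₁, hk₁⟩ := h0
      obtain ⟨k₂, hk₂⟩ := h1
      have hb' := cell_comp d hb
      obtain ⟨A₁, B₁, C₁, hc₁⟩ := H.cell_left_pp hs hb' (-x) k₁ (by rw [hk₁]; ring)
      -- recompute the last coordinate
      have hr : Cell i pp pm (P pp (-x) * P pm (d.left.appTop A)) (d.left.appTop A * (↑k₁⁻¹ : Γ(X'.left, ⊤)))
          (Gm.gmPt k₁ ≫ av) (-x * (↑k₁⁻¹ : Γ(X'.left, ⊤))) := by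
        rw [Cell, hs.rule _ _ k₁ (by rw [hk₁]; ring), Category.assoc]
      have hc₂ := H.cell_mul_right hr (d ≫ B) (d.left.appTop C)
      have eb : P pp (-x) * P pm (d.left.appTop A) * ((d ≫ B) ≫ i) * P pp (d.left.appTop C) =
          P pp (-x) * (d ≫ ptHom X p ≫ b ≫ Φ i pp pm) := by
        rw [show d ≫ ptHom X p ≫ b ≫ Φ i pp pm = _ from hb']; simp only [_root_.mul_assoc]
      rw [eb] at hc₂
      have hK : IsUnit (1 + (Red.gmFn ((d ≫ B) ≫ α⁻¹) * (-x * (↑k₁⁻¹ : Γ(X'.left, ⊤))) + d.left.appTop C) *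
          d.left.appTop y') := by
        have e : 1 + (Red.gmFn ((d ≫ B) ≫ α⁻¹) * (-x * (↑k₁⁻¹ : Γ(X'.left, ⊤))) + d.left.appTop C) *
            d.left.appTop y' = (k₂ : Γ(X'.left, ⊤)) * (↑k₁⁻¹ : Γ(X'.left, ⊤)) := by
          have hβ : Red.gmFn ((d ≫ B) ≫ α⁻¹) = d.left.appTop β := by rw [Category.assoc, Gm.gmFn_comp]
          rw [hk₂, hβ]
          linear_combination -(1 + d.left.appTop C * d.left.appTop y') * k₁.mul_inv +
            ((1 + d.left.appTop C * d.left.appTop y') * (↑k₁⁻¹ : Γ(X'.left, ⊤))) * hk₁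
        rw [e]; exact (Units.isUnit _).mul (Units.isUnit _)
      obtain ⟨K', hK'⟩ := hK
      have hr2 : Cell i pp pm (P pp (Red.gmFn ((d ≫ B) ≫ α⁻¹) * (-x * (↑k₁⁻¹ : Γ(X'.left, ⊤))) + d.left.appTop C) *
          P pm (d.left.appTop y')) (d.left.appTop y' * (↑K'⁻¹ : Γ(X'.left, ⊤))) (Gm.gmPt K' ≫ av)
          ((Red.gmFn ((d ≫ B) ≫ α⁻¹) * (-x * (↑k₁⁻¹ : Γ(X'.left, ⊤))) + d.left.appTop C) *
            (↑K'⁻¹ : Γ(X'.left, ⊤))) := by
        rw [Cell, hs.rule _ _ K' hK', Category.assoc (Gm.gmPt K')]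
      have hc₃ := H.cell_left_pm (H.cell_left_T hr2 ((Gm.gmPt k₁ ≫ av) * (d ≫ B)))
        (d.left.appTop A * (↑k₁⁻¹ : Γ(X'.left, ⊤)))
      let pt : X' ⟶ W := CartesianMonoidalCategory.lift (d ≫ ptHom X p) (Ga.gaPt x)
      have hp₀ : pt ≫ p₀ = d ≫ ptHom X p := lift_fst _ _
      have hx₀ : pt.left.appTop x₀ = x := by rw [← Ga.gaFn_comp, lift_snd, Ga.gaFn_gaPt]
      have hy₀ : pt.left.appTop (p₀.left.appTop y) = d.left.appTop y' := by
        rw [← CommRingCat.comp_apply, ← Scheme.Hom.comp_appTop, ← Over.comp_left, hp₀, Over.comp_left,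
          Scheme.Hom.comp_appTop, CommRingCat.comp_apply]
      obtain ⟨p', hp'⟩ := mem_range_ptHom X p
      obtain ⟨q₂, hq₂⟩ := d.left.surjective p'
      refine ⟨pt.left q₂, ⟨?_, ?_⟩, ?_⟩
      · refine (H.exists_cell_iff (pt ≫ g₁)).1 ?_ ⟨q₂, rfl⟩
        simp only [g₁, MonObj.comp_mul, P_comp, map_neg, hx₀, ← Category.assoc, hp₀]
        simp only [Category.assoc]
        exact ⟨_, _, _, hc₂⟩
      · refine (H.exists_cell_iff (pt ≫ g₂)).1 ?_ ⟨q₂, rfl⟩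
        simp only [g₂, MonObj.comp_mul, P_comp, map_neg, hx₀, hy₀, ← Category.assoc, hp₀]
        simp only [Category.assoc]
        rw [show P pp (-x) * (d ≫ ptHom X p ≫ b ≫ Φ i pp pm) = _ from hc₂]
        rw [← _root_.mul_assoc, ← _root_.mul_assoc] at hc₃
        exact ⟨_, _, _, hc₃⟩
      · rw [← Scheme.Hom.comp_apply, ← Over.comp_left, hp₀, Over.comp_left, Scheme.Hom.comp_apply, hq₂, hp']
    let V : Over S := Over.mk (O.ι ≫ W.hom)
    let j : V ⟶ W := Over.homMk O.ι rfl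
    have hepi : Epi (j ≫ p₀).left := H.epi_of_open hs E O hsurj
    refine RankOne.eq_of_epi hepi ?_
    rw [← Category.assoc _ _ f]
    simp only [MonObj.comp_mul, P_comp]
    rw [← Category.assoc (j ≫ p₀) a, ← Category.assoc (j ≫ p₀) b, ← Category.assoc (j ≫ p₀) a,
      ← Category.assoc (j ≫ p₀) b]
    have hr : ∀ g : W ⟶ G, O ≤ g.left ⁻¹ᵁ R → ∃ A B C, Cell i pp pm (j ≫ g) A B C := fun g hg =>
      (H.exists_cell_iff (j ≫ g)).2 (by rintro _ ⟨q, rfl⟩; exact hg q.2)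
    obtain ⟨A₁, B₁, C₁, h₁⟩ := hr g₁ inf_le_left
    obtain ⟨A₂, B₂, C₂, h₂⟩ := hr g₂ inf_le_right
    simp only [g₁, g₂, Cell, ← trip_Φ, MonObj.comp_mul, P_comp, map_neg] at h₁ h₂
    rw [← Category.assoc j p₀, ← Category.assoc (j ≫ p₀) b] at h₁ h₂
    rw [show j.left.appTop (p₀.left.appTop y) = (j ≫ p₀).left.appTop y by
      rw [Over.comp_left, Scheme.Hom.comp_appTop, CommRingCat.comp_apply]] at h₂
    generalize hx : j.left.appTop x₀ = x at h₁ h₂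
    generalize (j ≫ p₀).left.appTop y = y₁ at h₂ ⊢
    obtain ⟨A₃, B₃, C₃, h₃⟩ : ∃ A B C, Cell i pp pm ((((j ≫ p₀) ≫ a) ≫ Φ i pp pm) * P pp x) A B C := by
      obtain ⟨A, B, C, e⟩ := exists_trip ((j ≫ p₀) ≫ a)
      rw [e]
      have hp := H.cell_mul_right (H.cell_pt A B C) 1 x
      rw [trip_Φ]
      rw [MonObj.one_comp, _root_.mul_one] at hp
      exact ⟨_, _, _, hp⟩
    rw [Cell, ← trip_Φ] at h₃
    have hcong : ((((j ≫ p₀) ≫ a) ≫ Φ i pp pm) * (((j ≫ p₀) ≫ b) ≫ Φ i pp pm) * P pm y₁) =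
        (trip A₃ B₃ C₃ ≫ Φ i pp pm) * (trip A₂ B₂ C₂ ≫ Φ i pp pm) := by
      rw [← h₂, ← h₃, P_neg]; group
    rw [hcong, hpair]
    have e₃ := H.φd_mul hs E ((j ≫ p₀) ≫ a) (trip 0 1 x) (trip A₃ B₃ C₃) (by rw [hppΦ]; exact h₃)
    have e₁ := H.φd_mul hs E (trip 0 1 (-x)) ((j ≫ p₀) ≫ b) (trip A₁ B₁ C₁) (by rw [hppΦ]; exact h₁)
    have e₂ := H.φd_mul hs E (trip A₁ B₁ C₁) (trip y₁ 1 0) (trip A₂ B₂ C₂) (by
      rw [hpmΦ, ← h₂, ← h₁])
    rw [← e₃, ← e₂, ← e₁, hppφ, hppφ, hpmφ, P_neg]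
    group
  have hright : ∀ {X : Over S} (g : X ⟶ G) (e : X ⟶ (Red.Ga S ⊗ T) ⊗ Red.Ga S),
      (g * (e ≫ Φ i pp pm)) ≫ f = (g ≫ f) * (e ≫ cellMor φT φp φm) := by
    have hP : ∀ {X : Over S} (g : X ⟶ G) (x : Γ(X.left, ⊤)), (g * P pp x) ≫ f = (g ≫ f) * P φp x := by
      intro X g x
      obtain ⟨X', c, a, b, hc, e⟩ := H.exists_cells hs E hG g
      refine RankOne.eq_of_epi hc ?_
      rw [← Category.assoc, MonObj.comp_mul, MonObj.comp_mul, ← Category.assoc, e, P_comp, P_comp,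
        ← hppΦ, ← hppφ, hpair]
      refine hsafe a b _ ?_
      obtain ⟨A, B, C, rfl⟩ := exists_trip b
      rw [hppΦ, trip_Φ]
      exact ⟨_, _, _, by simpa [MonObj.one_comp] using H.cell_mul_right (H.cell_pt A B C) 1 (c.left.appTop x)⟩
    have hT : ∀ {X : Over S} (g : X ⟶ G) (t : X ⟶ T), (g * (t ≫ i)) ≫ f = (g ≫ f) * (t ≫ φT) := by
      intro X g t
      obtain ⟨X', c, a, b, hc, e⟩ := H.exists_cells hs E hG g
      refine RankOne.eq_of_epi hc ?_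
      rw [← Category.assoc c, MonObj.comp_mul, MonObj.comp_mul, ← Category.assoc c g f, e, ← Category.assoc c t i,
        ← Category.assoc c t φT, ← hTΦ, ← hTφ, hpair]
      refine hsafe a b _ ?_
      obtain ⟨A, B, C, rfl⟩ := exists_trip b
      rw [hTΦ, trip_Φ]
      exact ⟨_, _, _, by simpa [P_zero] using H.cell_mul_right (H.cell_pt A B C) (c ≫ t) 0⟩
    have hM : ∀ {X : Over S} (g : X ⟶ G) (y : Γ(X.left, ⊤)), (g * P pm y) ≫ f = (g ≫ f) * P φm y := by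
      intro X g y
      obtain ⟨X', c, a, b, hc, e⟩ := H.exists_cells hs E hG g
      refine RankOne.eq_of_epi hc ?_
      rw [← Category.assoc, MonObj.comp_mul, MonObj.comp_mul, ← Category.assoc, e, P_comp, P_comp, hpm3, hpair]
    intro X g e
    obtain ⟨A, B, C, rfl⟩ := exists_trip e
    rw [trip_Φ, trip_cellMor, ← _root_.mul_assoc, ← _root_.mul_assoc, hP, hT, hM]
    simp only [_root_.mul_assoc]
  have hmon : IsMonHom f := Groth.Agent.H87.HomDS.isMonHom_of_points f fun X g g' => by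
    obtain ⟨X', c, a, b, hc, e⟩ := H.exists_cells hs E hG g'
    refine RankOne.eq_of_epi hc ?_
    rw [← Category.assoc, MonObj.comp_mul, MonObj.comp_mul, ← Category.assoc, ← Category.assoc, e,
      ← _root_.mul_assoc, hright, hright, hpair, _root_.mul_assoc]
  refine ⟨f, hmon, ?_, ?_, ?_⟩
  · have h := hone (trip (0 : Γ(T.left, ⊤)) (𝟙 T) 0)
    rw [hTΦ, hTφ, Category.id_comp, Category.id_comp] at h
    exact h
  · have h := hone (trip (0 : Γ((Red.Ga S).left, ⊤)) (1 : Red.Ga S ⟶ T) (Red.gaFn (𝟙 (Red.Ga S))))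
    rw [hppΦ, hppφ, ← P_eq, ← P_eq, Category.id_comp, Category.id_comp] at h
    exact h
  · have h := hone (trip (Red.gaFn (𝟙 (Red.Ga S))) (1 : Red.Ga S ⟶ T) (0 : Γ((Red.Ga S).left, ⊤)))
    rw [hpmΦ, hpmφ, ← P_eq, ← P_eq, Category.id_comp, Category.id_comp] at h
    exact h

end Ext

end Hyp

end Groth.Agent.H82.BigCell
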