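import Groth.Agent.H82.RankOne2.Iso

/-!
# Generators and relations in semisimple rank one
-/

set_option autoImplicit false
set_option linter.style.haveILetI false
set_option linter.unusedSectionVars false
universe u

open CategoryTheory MonoidalCategory CartesianMonoidalCategory MonObj GrpObj AlgebraicGeometry
open Groth.Agent.Lib.RedPts Groth.Agent.Lib.GrpSch
open Groth.Agent.H82.RankOne (P P_eq P_add P_zero P_neg P_comp gmPt_eq gmPt_comp gmPt_mul gmPt_one gmPt_inv Sys)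

namespace Groth.Agent.H82.BigCell

variable {S : Scheme.{u}} {G T : Over S} [GrpObj G] [GrpObj T]
  {i : T ⟶ G} {α : T ⟶ Red.Gm S} {pp pm : Red.Ga S ⟶ G} {av : Red.Gm S ⟶ T}
  [IsMonHom i] [IsMonHom α] [IsMonHom pp] [IsMonHom pm] [IsMonHom av]
  {K : Over S} [GrpObj K]

/-- The relations between `fT`, `fα` and the image `h` of the Weyl element. -/
structure Gens (α : T ⟶ Red.Gm S) (av : Red.Gm S ⟶ T) (fT : T ⟶ K) (fα : Red.Ga S ⟶ K)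
    (h : 𝟙_ (Over S) ⟶ K) : Prop where
  monT : IsMonHom fT
  monP : IsMonHom fα
  c1 : ∀ {X : Over S} (t : X ⟶ T) (a : Γ(X.left, ⊤)),
    (t ≫ fT) * P fα a = P fα (Red.gmFn (t ≫ α) * a) * (t ≫ fT)
  c2 : ∀ {X : Over S} (t : X ⟶ T),
    (toUnit X ≫ h) * (t ≫ fT) * (toUnit X ≫ h)⁻¹ = (t * ((t ≫ α) ≫ av)⁻¹) ≫ fT
  sq : ∀ {X : Over S}, (toUnit X ≫ h) * (toUnit X ≫ h) = (Gm.gmPt (-1 : Γ(X.left, ⊤)ˣ) ≫ av) ≫ fT
  cube : ∀ {X : Over S}, ((toUnit X ≫ h) * P fα (1 : Γ(X.left, ⊤))) ^ 3 = 1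

namespace Gens

variable {fT : T ⟶ K} {fα : Red.Ga S ⟶ K} {h : 𝟙_ (Over S) ⟶ K}

/-- The image of a coroot point. -/
noncomputable def Hh (av : Red.Gm S ⟶ T) (fT : T ⟶ K) {X : Over S} (u : Γ(X.left, ⊤)ˣ) : X ⟶ K :=
  (Gm.gmPt u ≫ av) ≫ fT

/-- The image of `pm`. -/
noncomputable def mm (fα : Red.Ga S ⟶ K) (h : 𝟙_ (Over S) ⟶ K) {X : Over S} (y : Γ(X.left, ⊤)) : X ⟶ K :=
  (toUnit X ≫ h) * P fα (-y) * (toUnit X ≫ h)⁻¹

variable (R : Gens α av fT fα h) (H : Hyp i α pp pm) (hs : Sys i α pp pm av)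
include R H hs

theorem sw_α {X : Over S} (t : X ⟶ T) : (t * ((t ≫ α) ≫ av)⁻¹) ≫ α = (t ≫ α)⁻¹ := by
  rw [MonObj.mul_comp _ _ α, GrpObj.inv_comp _ α]
  have e : ((t ≫ α) ≫ av) ≫ α = (t ≫ α) * (t ≫ α) := by
    obtain ⟨u, hu⟩ := Gm.isUnit_gmFn (t ≫ α)
    refine Gm.gmFn_injective ?_
    rw [Gm.gmFn_mul, gmPt_eq (t ≫ α) hu.symm, hs.sq, Gm.gmFn_gmPt]
  rw [e]
  exact mul_inv_eq_iff_eq_mul.2 (inv_mul_cancel_left _ _).symm

theorem sw_sw {X : Over S} (t : X ⟶ T) :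
    (t * ((t ≫ α) ≫ av)⁻¹) * (((t * ((t ≫ α) ≫ av)⁻¹) ≫ α) ≫ av)⁻¹ = t := by
  rw [sw_α R H hs, GrpObj.inv_comp _ av, _root_.inv_inv, inv_mul_cancel_right]

theorem mul_h {X : Over S} (t : X ⟶ T) :
    (t ≫ fT) * (toUnit X ≫ h) = (toUnit X ≫ h) * ((t * ((t ≫ α) ≫ av)⁻¹) ≫ fT) := by
  have e := R.c2 (t * ((t ≫ α) ≫ av)⁻¹)
  rw [sw_sw R H hs, mul_inv_eq_iff_eq_mul] at e
  exact e.symm

theorem mul_hinv {X : Over S} (t : X ⟶ T) :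
    (t ≫ fT) * (toUnit X ≫ h)⁻¹ = (toUnit X ≫ h)⁻¹ * ((t * ((t ≫ α) ≫ av)⁻¹) ≫ fT) := by
  rw [← R.c2 t, _root_.mul_assoc, inv_mul_cancel_left]

theorem Hh_sw {X : Over S} (u : Γ(X.left, ⊤)ˣ) :
    (Gm.gmPt u ≫ av) * (((Gm.gmPt u ≫ av) ≫ α) ≫ av)⁻¹ = Gm.gmPt u⁻¹ ≫ av := by
  have e : (Gm.gmPt u ≫ av) ≫ α = Gm.gmPt (u * u) := gmPt_eq _ (by rw [hs.sq, Units.val_mul])
  rw [e, hs.av_mul, _root_.mul_inv_rev, mul_inv_cancel_left, gmPt_inv, GrpObj.inv_comp _ av]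

theorem Hh_P {X : Over S} (u : Γ(X.left, ⊤)ˣ) (a : Γ(X.left, ⊤)) :
    Hh av fT u * P fα a = P fα ((u : Γ(X.left, ⊤)) * (u : Γ(X.left, ⊤)) * a) * Hh av fT u := by
  rw [Hh, R.c1, hs.sq]

theorem Hh_mul {X : Over S} (u v : Γ(X.left, ⊤)ˣ) : Hh av fT (u * v) = Hh av fT u * Hh av fT v := by
  haveI := R.monT
  simp only [Hh, hs.av_mul, MonObj.mul_comp _ _ fT]

theorem conjM {X : Over S} (t : X ⟶ T) (y : Γ(X.left, ⊤)) :
    (t ≫ fT) * mm fα h y = mm fα h (Red.gmFn (t ≫ α⁻¹) * y) * (t ≫ fT) := by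
  have e := sw_α R H hs t
  calc (t ≫ fT) * mm fα h y
      = (toUnit X ≫ h) * (((t * ((t ≫ α) ≫ av)⁻¹) ≫ fT) * P fα (-y)) * (toUnit X ≫ h)⁻¹ := by
        rw [mm, ← _root_.mul_assoc, ← _root_.mul_assoc, mul_h R H hs]
        simp only [_root_.mul_assoc]
    _ = (toUnit X ≫ h) * P fα (-(Red.gmFn (t ≫ α⁻¹) * y)) *
          (((t * ((t ≫ α) ≫ av)⁻¹) ≫ fT) * (toUnit X ≫ h)⁻¹) := by
        rw [R.c1, e, GrpObj.comp_inv, mul_neg]
        simp only [_root_.mul_assoc]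
    _ = _ := by
        rw [mul_hinv R H hs, sw_sw R H hs, mm]
        simp only [_root_.mul_assoc]

theorem h_one_h {X : Over S} :
    (toUnit X ≫ h) * P fα (1 : Γ(X.left, ⊤)) * (toUnit X ≫ h) =
      P fα (-1 : Γ(X.left, ⊤)) * (toUnit X ≫ h)⁻¹ * P fα (-1) := by
  haveI := R.monP
  have e := R.cube (X := X)
  rw [P_neg]
  generalize toUnit X ≫ h = w, P fα (1 : Γ(X.left, ⊤)) = p at e ⊢
  have e' : (w * p * w) * (p * w * p) = 1 := by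
    rw [← e]; simp only [pow_succ, pow_zero, _root_.one_mul, _root_.mul_assoc]
  rw [mul_eq_one_iff_eq_inv.1 e']
  simp only [_root_.mul_inv_rev, _root_.mul_assoc]

theorem h_unit_h {X : Over S} (d : Γ(X.left, ⊤)ˣ) :
    (toUnit X ≫ h) * P fα (d : Γ(X.left, ⊤)) * (toUnit X ≫ h) =
      P fα (-(↑d⁻¹ : Γ(X.left, ⊤))) * (toUnit X ≫ h)⁻¹ * P fα (-(d : Γ(X.left, ⊤))) * Hh av fT d := by
  haveI := R.monT
  obtain ⟨X', c, t, hc, -, ht⟩ := H.lift (Gm.gmPt d⁻¹)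
  refine RankOne.eq_of_epi hc ?_
  have hH : ∀ u : Γ(X.left, ⊤)ˣ,
      c ≫ Hh av fT u = Hh av fT (Units.map c.left.appTop.hom.toMonoidHom u) := fun u => by
    simp only [Hh, ← Category.assoc]
    rw [gmPt_comp]
  simp only [MonObj.comp_mul, GrpObj.comp_inv, ← Category.assoc, toUnit_unique (c ≫ toUnit X) (toUnit X'),
    P_comp, map_neg, hH]
  rw [gmPt_comp] at ht
  generalize hd' : Units.map c.left.appTop.hom.toMonoidHom d = d'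
  have hc1 : c.left.appTop (d : Γ(X.left, ⊤)) = (d' : Γ(X'.left, ⊤)) := by rw [← hd']; rfl
  have hd'' : Units.map c.left.appTop.hom.toMonoidHom d⁻¹ = d'⁻¹ := by rw [map_inv, hd']
  have hc2 : c.left.appTop (↑d⁻¹ : Γ(X.left, ⊤)) = (↑d'⁻¹ : Γ(X'.left, ⊤)) := by rw [← hd'']; rfl
  rw [hd''] at ht
  rw [hc1, hc2]
  have e2 : (t * ((t ≫ α) ≫ av)⁻¹) ≫ α = Gm.gmPt d' := by
    rw [sw_α R H hs, ht, ← gmPt_inv, _root_.inv_inv]
  have e3 : t * ((t ≫ α) ≫ av)⁻¹ = t * (Gm.gmPt d' ≫ av) := by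
    rw [ht, ← GrpObj.inv_comp _ av, ← gmPt_inv, _root_.inv_inv]
  have base := h_one_h R H hs (X := X')
  have L : (t ≫ fT) * ((toUnit X' ≫ h) * P fα (1 : Γ(X'.left, ⊤)) * (toUnit X' ≫ h)) =
      (toUnit X' ≫ h) * P fα (d' : Γ(X'.left, ⊤)) * (toUnit X' ≫ h) * (t ≫ fT) := by
    rw [← _root_.mul_assoc, ← _root_.mul_assoc, mul_h R H hs, _root_.mul_assoc (toUnit X' ≫ h), R.c1, e2,
      Gm.gmFn_gmPt, _root_.mul_one]
    have := mul_h R H hs (t * ((t ≫ α) ≫ av)⁻¹)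
    rw [sw_sw R H hs] at this
    simp only [_root_.mul_assoc, this]
  have Rr : (t ≫ fT) * (P fα (-1 : Γ(X'.left, ⊤)) * (toUnit X' ≫ h)⁻¹ * P fα (-1)) =
      P fα (-(↑d'⁻¹ : Γ(X'.left, ⊤))) * (toUnit X' ≫ h)⁻¹ * P fα (-(d' : Γ(X'.left, ⊤))) *
        ((t * (Gm.gmPt d' ≫ av)) ≫ fT) := by
    rw [← _root_.mul_assoc, ← _root_.mul_assoc, R.c1, _root_.mul_assoc _ (t ≫ fT), mul_hinv R H hs,
      ← _root_.mul_assoc, _root_.mul_assoc _ _ (P fα _), R.c1, e2, ht, ← e3, ht, Gm.gmFn_gmPt, Gm.gmFn_gmPt]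
    simp only [mul_neg, _root_.mul_one, _root_.mul_assoc]
  rw [base, Rr, H.comm t, MonObj.mul_comp _ _ fT, ← _root_.mul_assoc] at L
  exact (mul_right_cancel L).symm

theorem mm_unit {X : Over S} (b : Γ(X.left, ⊤)ˣ) :
    mm fα h (b : Γ(X.left, ⊤)) =
      P fα (↑b⁻¹ : Γ(X.left, ⊤)) * (toUnit X ≫ h)⁻¹ * P fα (b : Γ(X.left, ⊤)) * Hh av fT b := by
  haveI := R.monT
  have e : (toUnit X ≫ h)⁻¹ = (toUnit X ≫ h) * (Hh av fT (-1 : Γ(X.left, ⊤)ˣ))⁻¹ := by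
    rw [eq_mul_inv_iff_mul_eq, Hh, ← R.sq, inv_mul_cancel_left]
  have hb := h_unit_h R H hs (-b)
  rw [Units.val_neg] at hb
  have ei : (↑(-b)⁻¹ : Γ(X.left, ⊤)) = -(↑b⁻¹ : Γ(X.left, ⊤)) := by rw [inv_neg, Units.val_neg]
  rw [ei, neg_neg, neg_neg, show (-b) = b * (-1) by rw [mul_neg, _root_.mul_one], Hh_mul R H hs] at hb
  calc mm fα h (b : Γ(X.left, ⊤))
      = (toUnit X ≫ h) * P fα (-(b : Γ(X.left, ⊤))) * ((toUnit X ≫ h) * (Hh av fT (-1 : Γ(X.left, ⊤)ˣ))⁻¹) := by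
        rw [mm, ← e]
    _ = _ := by
        rw [← _root_.mul_assoc, hb]
        simp only [_root_.mul_assoc, mul_inv_cancel, _root_.mul_one]

theorem rule_unit {X : Over S} (a : Γ(X.left, ⊤)) (b u : Γ(X.left, ⊤)ˣ)
    (hu : (u : Γ(X.left, ⊤)) = 1 + a * (b : Γ(X.left, ⊤))) :
    P fα a * mm fα h (b : Γ(X.left, ⊤)) =
      mm fα h ((b : Γ(X.left, ⊤)) * (↑u⁻¹ : Γ(X.left, ⊤))) * Hh av fT u * P fα (a * (↑u⁻¹ : Γ(X.left, ⊤))) := by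
  haveI := R.monP
  rw [← Units.val_mul, mm_unit R H hs, mm_unit R H hs, ← _root_.mul_assoc, ← _root_.mul_assoc,
    ← _root_.mul_assoc, ← P_add, _root_.mul_assoc _ (Hh av fT (b * u⁻¹)) (Hh av fT u), ← Hh_mul R H hs,
    inv_mul_cancel_right, _root_.mul_assoc _ (Hh av fT b) (P fα _), Hh_P R H hs, ← _root_.mul_assoc,
    _root_.mul_assoc (P fα (↑(b * u⁻¹)⁻¹ : Γ(X.left, ⊤)) * _) (P fα _) (P fα _), ← P_add]
  congr 4
  · rw [_root_.mul_inv_rev, _root_.inv_inv, Units.val_mul, hu]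
    linear_combination (-a) * b.mul_inv
  · rw [Units.val_mul]
    linear_combination (-(b : Γ(X.left, ⊤))) * u.mul_inv + ((b : Γ(X.left, ⊤)) * (↑u⁻¹ : Γ(X.left, ⊤))) * hu

theorem mm_add {X : Over S} (a b : Γ(X.left, ⊤)) : mm fα h (a + b) = mm fα h a * mm fα h b := by
  haveI := R.monP
  rw [mm, mm, mm, neg_add, P_add]
  group

theorem mm_comp {X X' : Over S} (c : X' ⟶ X) (y : Γ(X.left, ⊤)) :
    c ≫ mm fα h y = mm fα h (c.left.appTop y) := by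
  simp only [mm, MonObj.comp_mul, GrpObj.comp_inv, ← Category.assoc,
    toUnit_unique (c ≫ toUnit X) (toUnit X'), P_comp, map_neg]

theorem Hh_comp {X X' : Over S} (c : X' ⟶ X) (u : Γ(X.left, ⊤)ˣ) :
    c ≫ Hh av fT u = Hh av fT (Units.map c.left.appTop.hom.toMonoidHom u) := by
  simp only [Hh, ← Category.assoc]
  rw [gmPt_comp]

theorem rule {X : Over S} (a b : Γ(X.left, ⊤)) (u : Γ(X.left, ⊤)ˣ) (hu : (u : Γ(X.left, ⊤)) = 1 + a * b) :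
    P fα a * mm fα h b =
      mm fα h (b * (↑u⁻¹ : Γ(X.left, ⊤))) * Hh av fT u * P fα (a * (↑u⁻¹ : Γ(X.left, ⊤))) := by
  haveI := R.monP
  refine pt_ext_affine fun q => ?_
  haveI : IsAffine (piece X q).left := inferInstanceAs (IsAffine (X.left.affineCover.X q))
  simp only [MonObj.comp_mul, P_comp, mm_comp R H hs, Hh_comp R H hs, map_mul]
  have hu' : ((Units.map (pieceHom X q).left.appTop.hom.toMonoidHom u : Γ((piece X q).left, ⊤)ˣ) :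
      Γ((piece X q).left, ⊤)) = 1 + (pieceHom X q).left.appTop a * (pieceHom X q).left.appTop b := by
    rw [← map_mul, ← map_one (pieceHom X q).left.appTop.hom, ← map_add, ← hu]; rfl
  have hinv : (pieceHom X q).left.appTop (↑u⁻¹ : Γ(X.left, ⊤)) =
      (↑(Units.map (pieceHom X q).left.appTop.hom.toMonoidHom u)⁻¹ : Γ((piece X q).left, ⊤)) := by
    rw [← map_inv]; rfl
  rw [hinv]
  revert hu'
  generalize (pieceHom X q).left.appTop a = a₁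
  generalize (pieceHom X q).left.appTop b = b₁
  generalize Units.map (pieceHom X q).left.appTop.hom.toMonoidHom u = u₁
  intro hu'
  clear hinv
  obtain ⟨X', c, t, -, hc, -, hun, -⟩ := exists_generic (piece X q)
    ![Polynomial.X, Polynomial.C b₁ - Polynomial.X, 1 + Polynomial.C a₁ * Polynomial.X]
    (fun k => by
      fin_cases k
      · exact ⟨1, by simp⟩
      · exact ⟨1, by simp⟩
      · exact ⟨0, by simp⟩)
  have h0 := hun 0; have h1 := hun 1; have h2 := hun 2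
  simp at h0 h1 h2
  obtain ⟨b₂, rfl⟩ := h0
  obtain ⟨b₃, hb₃⟩ := h1
  obtain ⟨u₂, hu₂⟩ := h2
  refine RankOne.eq_of_epi hc ?_
  simp only [MonObj.comp_mul, P_comp, mm_comp R H hs, Hh_comp R H hs, map_mul]
  have hu3 : ((Units.map c.left.appTop.hom.toMonoidHom u₁ : Γ(X'.left, ⊤)ˣ) : Γ(X'.left, ⊤)) =
      1 + c.left.appTop a₁ * c.left.appTop b₁ := by
    rw [← map_mul, ← map_one c.left.appTop.hom, ← map_add, ← hu']; rfl
  have hinv' : c.left.appTop (↑u₁⁻¹ : Γ((piece X q).left, ⊤)) =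
      (↑(Units.map c.left.appTop.hom.toMonoidHom u₁)⁻¹ : Γ(X'.left, ⊤)) := by
    rw [← map_inv]; rfl
  rw [hinv']
  revert hu3 hu₂ hb₃
  generalize c.left.appTop a₁ = A
  generalize c.left.appTop b₁ = B
  generalize Units.map c.left.appTop.hom.toMonoidHom u₁ = U
  intro hb₃ hu₂ hu3
  have eB : B = (b₂ : Γ(X'.left, ⊤)) + (b₃ : Γ(X'.left, ⊤)) := by rw [hb₃]; ring
  subst eB
  have e2 := rule_unit R H hs (A * (↑u₂⁻¹ : Γ(X'.left, ⊤))) b₃ (U * u₂⁻¹) (by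
    rw [Units.val_mul]
    linear_combination u₂.inv_mul + (↑u₂⁻¹ : Γ(X'.left, ⊤)) * hu3 -
      (↑u₂⁻¹ : Γ(X'.left, ⊤)) * hu₂)
  have e3 : Hh av fT u₂ * mm fα h ((b₃ : Γ(X'.left, ⊤)) * (↑(U * u₂⁻¹)⁻¹ : Γ(X'.left, ⊤))) =
      mm fα h ((↑(u₂ * u₂)⁻¹ : Γ(X'.left, ⊤)) * ((b₃ : Γ(X'.left, ⊤)) * (↑(U * u₂⁻¹)⁻¹ : Γ(X'.left, ⊤)))) *
        Hh av fT u₂ := by
    rw [Hh, conjM R H hs, GrpObj.comp_inv]
    congr 3
    apply (u₂ * u₂).eq_inv_of_mul_eq_one_left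
    rw [mul_comm, Units.val_mul, ← hs.sq u₂]
    exact Gm.gmFn_inv_mul_gmFn _
  calc P fα A * mm fα h ((b₂ : Γ(X'.left, ⊤)) + (b₃ : Γ(X'.left, ⊤)))
      = mm fα h ((b₂ : Γ(X'.left, ⊤)) * (↑u₂⁻¹ : Γ(X'.left, ⊤))) * Hh av fT u₂ *
          (P fα (A * (↑u₂⁻¹ : Γ(X'.left, ⊤))) * mm fα h (b₃ : Γ(X'.left, ⊤))) := by
        rw [mm_add R H hs, ← _root_.mul_assoc, rule_unit R H hs A b₂ u₂ hu₂]
        simp only [_root_.mul_assoc]
    _ = mm fα h ((b₂ : Γ(X'.left, ⊤)) * (↑u₂⁻¹ : Γ(X'.left, ⊤))) *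
          (Hh av fT u₂ * mm fα h ((b₃ : Γ(X'.left, ⊤)) * (↑(U * u₂⁻¹)⁻¹ : Γ(X'.left, ⊤)))) *
            Hh av fT (U * u₂⁻¹) * P fα (A * (↑u₂⁻¹ : Γ(X'.left, ⊤)) * (↑(U * u₂⁻¹)⁻¹ : Γ(X'.left, ⊤))) := by
        rw [e2]; simp only [_root_.mul_assoc]
    _ = _ := by
        rw [e3, ← _root_.mul_assoc (mm fα h _), ← mm_add R H hs, _root_.mul_assoc _ (Hh av fT u₂),
          ← Hh_mul R H hs, mul_comm U, mul_inv_cancel_left]
        refine congrArg₂ (· * ·) (congrArg₂ (· * ·) (congrArg _ ?_) rfl) (congrArg _ ?_)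
        · simp only [_root_.mul_inv_rev, _root_.inv_inv, Units.val_mul]
          linear_combination (-((b₂ : Γ(X'.left, ⊤)) * (↑u₂⁻¹ : Γ(X'.left, ⊤)))) * U.mul_inv +
            ((b₂ : Γ(X'.left, ⊤)) * (↑u₂⁻¹ : Γ(X'.left, ⊤)) * (↑U⁻¹ : Γ(X'.left, ⊤))) * hu3 +
            (((b₂ : Γ(X'.left, ⊤)) + (b₃ : Γ(X'.left, ⊤)) + (↑u₂⁻¹ : Γ(X'.left, ⊤)) * (b₃ : Γ(X'.left, ⊤))) *
              (↑U⁻¹ : Γ(X'.left, ⊤))) * u₂.inv_mul -
            (((b₂ : Γ(X'.left, ⊤)) + (b₃ : Γ(X'.left, ⊤))) * (↑u₂⁻¹ : Γ(X'.left, ⊤)) *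
              (↑U⁻¹ : Γ(X'.left, ⊤))) * hu₂
        · simp only [_root_.mul_inv_rev, _root_.inv_inv, Units.val_mul]
          linear_combination (A * (↑U⁻¹ : Γ(X'.left, ⊤))) * u₂.inv_mul

/-- The homomorphism defined by generators satisfying the relations. -/
theorem exists_hom (hG : Red.IsReductive G) :
    ∃ f : G ⟶ K, IsMonHom f ∧ i ≫ f = fT ∧ pp ≫ f = fα ∧ ∀ {X : Over S}, w₀ pp pm X ≫ f = toUnit X ≫ h := by
  haveI := R.monT; haveI := R.monP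
  let φm : Red.Ga S ⟶ K := mm fα h (Red.gaFn (𝟙 (Red.Ga S)))
  have hφ : ∀ {X : Over S} (y : Γ(X.left, ⊤)), P φm y = mm fα h y := fun {X} y => by
    change Ga.gaPt y ≫ φm = _
    rw [mm_comp R H hs, ← Ga.gaFn_comp, Category.comp_id, Ga.gaFn_gaPt]
  have E : ExtHyp α av fT fα φm :=
    { monT := R.monT
      monP := R.monP
      monM := Groth.Agent.H87.HomDS.isMonHom_of_points _ fun X a b => by
        rw [P_eq φm (a * b), P_eq φm a, P_eq φm b, hφ, hφ, hφ, ← mm_add R H hs, Ga.gaFn_mul]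
      conjP := fun {X} t a => R.c1 t a
      conjM := fun {X} t b => by rw [hφ, hφ]; exact conjM R H hs t b
      rule := fun {X} a b u hu => by rw [hφ, hφ]; exact rule R H hs a b u hu }
  obtain ⟨f, hf, h1, h2, h3⟩ := H.exists_extension hs E hG
  refine ⟨f, hf, h1, h2, fun {X} => ?_⟩
  haveI := hf
  have ep : ∀ a : Γ(X.left, ⊤), P pp a ≫ f = P fα a := fun a => by unfold P; rw [Category.assoc, h2]
  have em : ∀ a : Γ(X.left, ⊤), P pm a ≫ f = mm fα h a := fun a => by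
    rw [← hφ]; unfold P; rw [Category.assoc, h3]
  rw [w₀, Sys.W, MonObj.mul_comp _ _ f, MonObj.mul_comp _ _ f, ep, em, mm]
  simp only [Units.val_one, inv_one, neg_neg]
  have e := h_one_h R H hs (X := X)
  have hz : Hh av fT (-1 : Γ(X.left, ⊤)ˣ) * P fα (1 : Γ(X.left, ⊤)) =
      P fα 1 * Hh av fT (-1 : Γ(X.left, ⊤)ˣ) := by
    rw [Hh_P R H hs]; simp
  have hz2 : (toUnit X ≫ h) * (toUnit X ≫ h) = Hh av fT (-1 : Γ(X.left, ⊤)ˣ) := R.sq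
  rw [P_neg] at e
  have hzz : Hh av fT (-1 : Γ(X.left, ⊤)ˣ) * Hh av fT (-1 : Γ(X.left, ⊤)ˣ) = 1 := by
    rw [← Hh_mul R H hs, neg_mul_neg, _root_.one_mul, Hh, gmPt_one, MonObj.one_comp, MonObj.one_comp]
  have hzz : Hh av fT (-1 : Γ(X.left, ⊤)ˣ) * Hh av fT (-1 : Γ(X.left, ⊤)ˣ) = 1 := by
    rw [← Hh_mul R H hs, neg_mul_neg, _root_.one_mul, Hh, gmPt_one, MonObj.one_comp, MonObj.one_comp]
  generalize toUnit X ≫ h = w, P fα (1 : Γ(X.left, ⊤)) = p, Hh av fT (-1 : Γ(X.left, ⊤)ˣ) = z at e hz hz2 hzz ⊢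
  subst hz2
  calc p * (w * p * w⁻¹) * p = p * (w * p * w) * w⁻¹ * w⁻¹ * p := by group
    _ = w⁻¹ * (p⁻¹ * (w * w)⁻¹) * p := by rw [e]; group
    _ = w⁻¹ * (w * w * p)⁻¹ * p := by group
    _ = w⁻¹ * (p * (w * w))⁻¹ * p := by rw [hz]
    _ = (w * w * w)⁻¹ := by group
    _ = w := ?_
  rw [eq_comm, eq_inv_iff_mul_eq_one, ← hzz]; group

end Gens

end Groth.Agent.H82.BigCell
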