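import Groth.Agent.H82.RankOne2.Transfer

/-!
# Transfer predicates in statement form
-/

set_option autoImplicit false
set_option linter.style.haveILetI false
set_option linter.unusedSectionVars false
universe u

open CategoryTheory MonoidalCategory CartesianMonoidalCategory MonObj GrpObj AlgebraicGeometry
open Groth.Agent.Lib.RedPts
open Groth.Agent.H82.RankOne (P P_eq gmPt_eq Sys)

namespace Groth.Agent.H82.BigCell

variable {S : Scheme.{u}} {G T G' T' : Over S} [GrpObj G] [GrpObj T] [GrpObj G'] [GrpObj T']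
  {i : T ⟶ G} {pp pm : Red.Ga S ⟶ G} {av : Red.Gm S ⟶ T}
  {i' : T' ⟶ G'} {pp' pm' : Red.Ga S ⟶ G'} {av' : Red.Gm S ⟶ T'}

/-- The unit of an `S`-point of `𝔾ₘ`. -/
noncomputable def unitOf (c : 𝟙_ (Over S) ⟶ Red.Gm S) : Γ((𝟙_ (Over S)).left, ⊤)ˣ :=
  (Gm.isUnit_gmFn c).unit

theorem gmFn_cst_unitOf (c : 𝟙_ (Over S) ⟶ Red.Gm S) (X : Over S) :
    Red.gmFn (toUnit X ≫ c) = (cst (unitOf c) X : Γ(X.left, ⊤)) :=
  cst_spec _ c (Gm.isUnit_gmFn c).unit_spec.symm X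

variable (f : G ⟶ G') {c : 𝟙_ (Over S) ⟶ Red.Gm S} {q : ℕ}

theorem mapsPP_iff :
    (∀ (X : Over S) (x y : X ⟶ Red.Ga S), Red.gaFn y = Red.gmFn (toUnit X ≫ c) * Red.gaFn x ^ q →
      (x ≫ pp) ≫ f = y ≫ pp') ↔ MapsPP pp pp' f (unitOf c) q := by
  constructor
  · intro h X x
    have := h X (Ga.gaPt x) (Ga.gaPt ((cst (unitOf c) X : Γ(X.left, ⊤)) * x ^ q))
      (by rw [Ga.gaFn_gaPt, Ga.gaFn_gaPt, gmFn_cst_unitOf])
    exact this
  · intro h X x y hy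
    rw [gmFn_cst_unitOf] at hy
    rw [P_eq pp x, h, P_eq pp' y, hy]

theorem mapsPM_iff :
    (∀ (X : Over S) (x y : X ⟶ Red.Ga S), Red.gaFn y * Red.gmFn (toUnit X ≫ c) = Red.gaFn x ^ q →
      (x ≫ pm) ≫ f = y ≫ pm') ↔ MapsPM pm pm' f (unitOf c) q := by
  constructor
  · intro h X x
    have := h X (Ga.gaPt x) (Ga.gaPt ((↑(cst (unitOf c) X)⁻¹ : Γ(X.left, ⊤)) * x ^ q))
      (by
        rw [Ga.gaFn_gaPt, Ga.gaFn_gaPt, gmFn_cst_unitOf]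
        linear_combination (x ^ q) * (cst (unitOf c) X).mul_inv)
    exact this
  · intro h X x y hy
    rw [gmFn_cst_unitOf, ← Units.eq_mul_inv_iff_mul_eq, mul_comm] at hy
    rw [P_eq pm x, h, P_eq pm' y, hy]

theorem mapsCoroot_iff :
    (∀ (X : Over S) (z : X ⟶ Red.Gm S), (z ≫ av ≫ i) ≫ f = ((z ≫ av') ^ q) ≫ i') ↔
      (∀ (X : Over S) (u : Γ(X.left, ⊤)ˣ), Sys.H i av u ≫ f = (((Gm.gmPt u) ≫ av') ^ q) ≫ i') :=
  ⟨fun h X u => h X (Gm.gmPt u), fun h X z => by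
    rw [gmPt_eq z (Gm.isUnit_gmFn z).unit_spec.symm]; exact h X _⟩

theorem mapsW_iff [IsMonHom pp] :
    (∀ (X : Over S) (x x' y y' : X ⟶ Red.Ga S), Red.gaFn x' * Red.gaFn x = -1 →
        Red.gaFn y = Red.gmFn (toUnit X ≫ c) * Red.gaFn x ^ q → Red.gaFn y' * Red.gaFn y = -1 →
        ((x ≫ pp) * (x' ≫ pm) * (x ≫ pp)) ≫ f = (y ≫ pp') * (y' ≫ pm') * (y ≫ pp')) ↔
      MapsW pp pm pp' pm' f (unitOf c) q := by
  constructor
  · intro h X u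
    have := h X (Ga.gaPt (u : Γ(X.left, ⊤))) (Ga.gaPt (-(↑u⁻¹ : Γ(X.left, ⊤))))
      (Ga.gaPt ((cst (unitOf c) X * u ^ q : Γ(X.left, ⊤)ˣ) : Γ(X.left, ⊤)))
      (Ga.gaPt (-(↑(cst (unitOf c) X * u ^ q)⁻¹ : Γ(X.left, ⊤))))
      (by rw [Ga.gaFn_gaPt, Ga.gaFn_gaPt, neg_mul, Units.inv_mul])
      (by rw [Ga.gaFn_gaPt, Ga.gaFn_gaPt, gmFn_cst_unitOf, Units.val_mul, Units.val_pow_eq_pow_val])
      (by rw [Ga.gaFn_gaPt, Ga.gaFn_gaPt, neg_mul, Units.inv_mul])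
    exact this
  · intro h X x x' y y' hx hy hy'
    obtain ⟨u, hu⟩ := IsUnit.of_mul_eq_one (a := Red.gaFn x) (-Red.gaFn x') (by linear_combination -hx)
    rw [← hu] at hx hy
    rw [gmFn_cst_unitOf, ← Units.val_pow_eq_pow_val, ← Units.val_mul] at hy
    rw [hy] at hy'
    have ex : Red.gaFn x' = -(↑u⁻¹ : Γ(X.left, ⊤)) := by
      linear_combination (↑u⁻¹ : Γ(X.left, ⊤)) * hx - Red.gaFn x' * u.mul_inv
    have ey : Red.gaFn y' = -(↑(cst (unitOf c) X * u ^ q)⁻¹ : Γ(X.left, ⊤)) := by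
      linear_combination (↑(cst (unitOf c) X * u ^ q)⁻¹ : Γ(X.left, ⊤)) * hy' -
        Red.gaFn y' * (cst (unitOf c) X * u ^ q).mul_inv
    rw [P_eq pp x, P_eq pm x', P_eq pp' y, P_eq pm' y', ← hu, ex, hy, ey]
    exact h X u

end Groth.Agent.H82.BigCell
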