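import Groth.Agent.H82.RankOne2.Extend
import Groth.Agent.H82.RankOne2.TransferStmt
import Groth.Agent.H82.RankOne2.Bruhat

/-!
# Homomorphisms of rank-one systems from torus data
-/

set_option autoImplicit false
set_option linter.style.haveILetI false
set_option linter.unusedSectionVars false
universe u

open CategoryTheory MonoidalCategory CartesianMonoidalCategory MonObj GrpObj AlgebraicGeometry
open Groth.Agent.Lib.RedPts
open Groth.Agent.H82.RankOne (P P_eq P_add P_zero P_neg P_comp gmPt_eq gmPt_comp gmPt_mul Sys)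

namespace Groth.Agent.H82.BigCell

variable {S : Scheme.{u}}

/-- `x ↦ p(v x^q)`. -/
noncomputable def scaleHom {K : Over S} (p : Red.Ga S ⟶ K) (v : Γ((𝟙_ (Over S)).left, ⊤)ˣ) (q : ℕ) :
    Red.Ga S ⟶ K :=
  Ga.gaPt ((cst v (Red.Ga S) : Γ((Red.Ga S).left, ⊤)) * Red.gaFn (𝟙 (Red.Ga S)) ^ q) ≫ p

theorem P_scaleHom {K : Over S} [GrpObj K] (p : Red.Ga S ⟶ K) (v : Γ((𝟙_ (Over S)).left, ⊤)ˣ) (q : ℕ)
    {X : Over S} (a : Γ(X.left, ⊤)) :
    P (scaleHom p v q) a = P p ((cst v X : Γ(X.left, ⊤)) * a ^ q) := by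
  unfold P scaleHom
  rw [← Category.assoc]
  congr 1
  apply Ga.eq_gaPt
  rw [Ga.gaFn_comp, Ga.gaFn_gaPt, map_mul, map_pow, cst_comp_val, ← Ga.gaFn_comp, Category.comp_id,
    Ga.gaFn_gaPt]

theorem isMonHom_scaleHom {K : Over S} [GrpObj K] (p : Red.Ga S ⟶ K) [IsMonHom p]
    (v : Γ((𝟙_ (Over S)).left, ⊤)ˣ) {q : ℕ} (hq : IsAddPow S q) : IsMonHom (scaleHom p v q) :=
  Groth.Agent.H87.HomDS.isMonHom_of_points _ fun X a b => by
    rw [P_eq (scaleHom p v q) (a * b), P_eq (scaleHom p v q) a, P_eq (scaleHom p v q) b, P_scaleHom,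
      P_scaleHom, P_scaleHom, ← P_add, Ga.gaFn_mul, hq X, mul_add]

theorem cst_inv (v : Γ((𝟙_ (Over S)).left, ⊤)ˣ) (X : Over S) : cst v⁻¹ X = (cst v X)⁻¹ := map_inv _ v

theorem cst_one (X : Over S) : cst (1 : Γ((𝟙_ (Over S)).left, ⊤)ˣ) X = 1 := map_one _

variable {G T G' T' : Over S} [GrpObj G] [GrpObj T] [GrpObj G'] [GrpObj T']
  {i : T ⟶ G} {α : T ⟶ Red.Gm S} {pp pm : Red.Ga S ⟶ G} {av : Red.Gm S ⟶ T}
  [IsMonHom i] [IsMonHom α] [IsMonHom pp] [IsMonHom pm]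
  {i' : T' ⟶ G'} {α' : T' ⟶ Red.Gm S} {pp' pm' : Red.Ga S ⟶ G'} {av' : Red.Gm S ⟶ T'}
  [IsMonHom i'] [IsMonHom α'] [IsMonHom pp'] [IsMonHom pm'] [IsMonHom av']

theorem av_pow_comp {X : Over S} (u : Γ(X.left, ⊤)ˣ) (q : ℕ) :
    Gm.gmPt (u ^ q) ≫ av' = (Gm.gmPt u ≫ av') ^ q := by
  rw [← MonObj.pow_comp _ _ av']
  congr 1
  refine Gm.gmFn_injective ?_
  rw [Gm.gmFn_pow, Gm.gmFn_gmPt, Gm.gmFn_gmPt, Units.val_pow_eq_pow_val]

theorem coroot_fT {fT : T ⟶ T'} {q : ℕ} (hfav : av ≫ fT = av' ^ q) {X : Over S} (u : Γ(X.left, ⊤)ˣ) :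
    (Gm.gmPt u ≫ av) ≫ fT ≫ i' = Sys.H i' av' (u ^ q) := by
  rw [Sys.H, ← Category.assoc (Gm.gmPt _) av', av_pow_comp u q, ← MonObj.comp_pow, ← hfav]
  simp only [Category.assoc]

/-- Existence of a homomorphism with prescribed torus part. -/
theorem exists_hom_of_data (H : Hyp i α pp pm) (hs : Sys i α pp pm av) (H' : Hyp i' α' pp' pm')
    (hs' : Sys i' α' pp' pm' av') (hG : Red.IsReductive G) {q : ℕ} (hq : IsAddPow S q) (hq0 : 0 < q)
    (v : Γ((𝟙_ (Over S)).left, ⊤)ˣ) (fT : T ⟶ T') [IsMonHom fT]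
    (hfα : fT ≫ α' = α ^ q) (hfav : av ≫ fT = av' ^ q) :
    ∃ f : G ⟶ G', IsMonHom f ∧ i ≫ f = fT ≫ i' ∧ MapsPP pp pp' f v q ∧ MapsPM pm pm' f v q := by
  have E : ExtHyp α av (fT ≫ i') (scaleHom pp' v q) (scaleHom pm' v⁻¹ q) :=
    { monT := inferInstance
      monP := isMonHom_scaleHom pp' v hq
      monM := isMonHom_scaleHom pm' v⁻¹ hq
      conjP := fun {X} t a => by
        rw [P_scaleHom, P_scaleHom, ← Category.assoc, H'.conjP, Category.assoc t fT, hfα, MonObj.comp_pow,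
          Gm.gmFn_pow, mul_pow]
        congr 2
        ring
      conjM := fun {X} t b => by
        rw [P_scaleHom, P_scaleHom, ← Category.assoc, H'.conjM]
        have e : Red.gmFn ((t ≫ fT) ≫ α'⁻¹) = Red.gmFn (t ≫ α⁻¹) ^ q := by
          rw [← Gm.gmFn_pow]
          congr 1
          rw [GrpObj.comp_inv, GrpObj.comp_inv, Category.assoc, hfα, MonObj.comp_pow, inv_pow]
        rw [e, mul_pow]
        congr 2
        ring
      rule := fun {X} a b u hu => by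
        have hcv : (↑(cst v X)⁻¹ : Γ(X.left, ⊤)) = (cst v⁻¹ X : Γ(X.left, ⊤)) := by
          simp only [cst, map_inv]
        have h := hs'.rule ((cst v X : Γ(X.left, ⊤)) * a ^ q) ((cst v⁻¹ X : Γ(X.left, ⊤)) * b ^ q) (u ^ q) (by
          rw [Units.val_pow_eq_pow_val, hu, hq X, one_pow, mul_pow, ← hcv]
          linear_combination (-(a ^ q * b ^ q)) * (cst v X).mul_inv)
        rw [P_scaleHom, P_scaleHom, h, P_scaleHom, P_scaleHom, coroot_fT hfav u, Sys.H]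
        simp only [mul_pow, ← inv_pow, Units.val_pow_eq_pow_val, _root_.mul_assoc] }
  obtain ⟨f, hf, h1, h2, h3⟩ := H.exists_extension hs E hG
  refine ⟨f, hf, h1, fun X x => ?_, fun X y => ?_⟩
  · have e : P pp x ≫ f = P (scaleHom pp' v q) x := by unfold P; rw [Category.assoc, h2]
    rw [e, P_scaleHom]
  · have e : P pm y ≫ f = P (scaleHom pm' v⁻¹ q) y := by unfold P; rw [Category.assoc, h3]
    rw [e, P_scaleHom]
    congr 2

/-- Two homomorphisms with the same data agree. -/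
theorem hom_eq_of_data (H : Hyp i α pp pm) (hs : Sys i α pp pm av) (hG : Red.IsReductive G)
    {f g : G ⟶ G'} [IsMonHom f] [IsMonHom g] {v : Γ((𝟙_ (Over S)).left, ⊤)ˣ} {q : ℕ}
    (hi : i ≫ f = i ≫ g) (hp : MapsPP pp pp' f v q) (hp' : MapsPP pp pp' g v q)
    (hm : MapsPM pm pm' f v q) (hm' : MapsPM pm pm' g v q) : f = g := by
  refine H.hom_ext hs hG f g hi ?_ ?_
  · have := (hp _ (Red.gaFn (𝟙 (Red.Ga S)))).trans (hp' _ (Red.gaFn (𝟙 (Red.Ga S)))).symm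
    rwa [← P_eq, Category.id_comp] at this
  · have := (hm _ (Red.gaFn (𝟙 (Red.Ga S)))).trans (hm' _ (Red.gaFn (𝟙 (Red.Ga S)))).symm
    rwa [← P_eq, Category.id_comp] at this

/-- The coroot is mapped to the power of the coroot. -/
theorem mapsCoroot_of_fT {f : G ⟶ G'} {fT : T ⟶ T'} {q : ℕ} (hfT : i ≫ f = fT ≫ i')
    (hfav : av ≫ fT = av' ^ q) : MapsCoroot i av i' av' f q := fun X u => by
  rw [← coroot_fT hfav u, Sys.H]
  simp only [Category.assoc, hfT]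

end Groth.Agent.H82.BigCell
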