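import Groth.Agent.H82.RankOne2.NotComm
import Groth.Agent.H82.RankOne2.Bruhat
import Groth.Agent.S4131

/-!
# Normalising a rank-one system so that the two root groups are dual
-/

set_option autoImplicit false
set_option linter.style.haveILetI false
set_option linter.unusedSectionVars false
universe u

open CategoryTheory MonoidalCategory CartesianMonoidalCategory MonObj GrpObj AlgebraicGeometry
open Groth.Agent.Lib.RedPts
open Groth.Agent.H82.RankOne (P P_eq P_add P_zero P_neg P_comp gmPt_eq Sys sys_of_hyp)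

namespace Groth.Agent.H82.BigCell

variable {S : Scheme.{u}}

/-- Multiplication by a unit function on `𝔾ₐ`. -/
noncomputable def gaScale (v : Γ((𝟙_ (Over S)).left, ⊤)ˣ) : Red.Ga S ⟶ Red.Ga S :=
  Ga.gaPt ((toUnit (Red.Ga S)).left.appTop (v : Γ((𝟙_ (Over S)).left, ⊤)) * Red.gaFn (𝟙 (Red.Ga S)))

theorem gaFn_comp_gaScale (v : Γ((𝟙_ (Over S)).left, ⊤)ˣ) {X : Over S} (x : X ⟶ Red.Ga S) :
    Red.gaFn (x ≫ gaScale v) = (toUnit X).left.appTop (v : Γ((𝟙_ (Over S)).left, ⊤)) * Red.gaFn x := by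
  rw [gaScale, Ga.gaFn_comp, Ga.gaFn_gaPt, map_mul, ← Ga.gaFn_comp, Category.comp_id]
  congr 1
  rw [← CommRingCat.comp_apply, ← Scheme.Hom.comp_appTop, ← Over.comp_left,
    toUnit_unique (x ≫ toUnit _) (toUnit X)]

theorem gaScale_comp (v v' : Γ((𝟙_ (Over S)).left, ⊤)ˣ) : gaScale v ≫ gaScale v' = gaScale (v' * v) :=
  Ga.gaFn_injective (by
    rw [gaFn_comp_gaScale, gaScale, gaScale, Ga.gaFn_gaPt, Ga.gaFn_gaPt, Units.val_mul, map_mul, _root_.mul_assoc])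

theorem gaScale_one : gaScale (1 : Γ((𝟙_ (Over S)).left, ⊤)ˣ) = 𝟙 (Red.Ga S) :=
  Ga.gaFn_injective (by rw [gaScale, Ga.gaFn_gaPt, Units.val_one, map_one, _root_.one_mul])

theorem isIso_gaScale (v : Γ((𝟙_ (Over S)).left, ⊤)ˣ) : IsIso (gaScale v) :=
  ⟨gaScale v⁻¹, by rw [gaScale_comp, inv_mul_cancel, gaScale_one],
    by rw [gaScale_comp, mul_inv_cancel, gaScale_one]⟩

theorem isMonHom_gaScale (v : Γ((𝟙_ (Over S)).left, ⊤)ˣ) : IsMonHom (gaScale v) :=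
  Groth.Agent.H87.HomDS.isMonHom_of_points _ fun X x y => Ga.gaFn_injective (by
    rw [Ga.gaFn_mul, gaFn_comp_gaScale, gaFn_comp_gaScale, gaFn_comp_gaScale, Ga.gaFn_mul, mul_add])

variable {G T : Over S} [GrpObj G] [GrpObj T]
  {i : T ⟶ G} {α : T ⟶ Red.Gm S} {pp pm : Red.Ga S ⟶ G}
  [IsMonHom i] [IsMonHom α] [IsMonHom pp] [IsMonHom pm]

theorem hpm_gaScale (v : Γ((𝟙_ (Over S)).left, ⊤)ˣ)
    (hpm : ∀ (X : Over S) (t : X ⟶ T) (y : X ⟶ Red.Ga S), ∃ y' : X ⟶ Red.Ga S,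
      y' ≫ pm = (t ≫ i) * (y ≫ pm) * (t ≫ i)⁻¹ ∧ Red.gaFn y' * Red.gmFn (t ≫ α) = Red.gaFn y)
    (X : Over S) (t : X ⟶ T) (y : X ⟶ Red.Ga S) : ∃ y' : X ⟶ Red.Ga S,
      y' ≫ (gaScale v ≫ pm) = (t ≫ i) * (y ≫ (gaScale v ≫ pm)) * (t ≫ i)⁻¹ ∧
        Red.gaFn y' * Red.gmFn (t ≫ α) = Red.gaFn y := by
  obtain ⟨y', h, h'⟩ := hpm X t (y ≫ gaScale v)
  refine ⟨y' ≫ gaScale v⁻¹, ?_, ?_⟩
  · rw [← Category.assoc, Category.assoc y', gaScale_comp, mul_inv_cancel, gaScale_one, Category.comp_id, h,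
      Category.assoc]
  · rw [gaFn_comp_gaScale] at h'
    rw [gaFn_comp_gaScale, _root_.mul_assoc, h', ← _root_.mul_assoc, ← map_mul, Units.inv_mul, map_one, _root_.one_mul]

theorem openImm_gaScale (v : Γ((𝟙_ (Over S)).left, ⊤)ˣ)
    (hΩ : IsOpenImmersion (((pm ⊗ₘ i) ⊗ₘ pp) ≫ (μ[G] ▷ G) ≫ μ[G]).left) :
    IsOpenImmersion ((((gaScale v ≫ pm) ⊗ₘ i) ⊗ₘ pp) ≫ (μ[G] ▷ G) ≫ μ[G]).left := by
  have := isIso_gaScale v
  have e : (((gaScale v ≫ pm) ⊗ₘ i) ⊗ₘ pp) = ((gaScale v ⊗ₘ 𝟙 T) ⊗ₘ 𝟙 (Red.Ga S)) ≫ ((pm ⊗ₘ i) ⊗ₘ pp) := by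
    rw [tensorHom_comp_tensorHom, tensorHom_comp_tensorHom, Category.id_comp, Category.id_comp]
  rw [e, Category.assoc, Over.comp_left]
  haveI : IsIso (((gaScale v ⊗ₘ 𝟙 T) ⊗ₘ 𝟙 (Red.Ga S))).left :=
    ((Over.forget S).mapIso (asIso ((gaScale v ⊗ₘ 𝟙 T) ⊗ₘ 𝟙 (Red.Ga S)))).isIso_hom
  infer_instance

/-- A reductive rank-one system has a coroot, after rescaling one root group. -/
theorem exists_sys (hG : Red.IsReductive G) [Mono i] (hT : Red.IsTorus T)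
    (hα : ∀ s : S, (Over.pullback (Red.geomPt s)).map α ≠ 1) [Mono pp] [Mono pm]
    (hpp : ∀ (X : Over S) (t : X ⟶ T) (x : X ⟶ Red.Ga S), ∃ x' : X ⟶ Red.Ga S,
      x' ≫ pp = (t ≫ i) * (x ≫ pp) * (t ≫ i)⁻¹ ∧ Red.gaFn x' = Red.gmFn (t ≫ α) * Red.gaFn x)
    (hpm : ∀ (X : Over S) (t : X ⟶ T) (y : X ⟶ Red.Ga S), ∃ y' : X ⟶ Red.Ga S,
      y' ≫ pm = (t ≫ i) * (y ≫ pm) * (t ≫ i)⁻¹ ∧ Red.gaFn y' * Red.gmFn (t ≫ α) = Red.gaFn y)
    (hΩ : IsOpenImmersion (((pm ⊗ₘ i) ⊗ₘ pp) ≫ (μ[G] ▷ G) ≫ μ[G]).left) :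
    ∃ (pm' : Red.Ga S ⟶ G) (_ : IsMonHom pm') (av : Red.Gm S ⟶ T) (_ : IsMonHom av),
      Hyp i α pp pm' ∧ Sys i α pp pm' av := by
  obtain ⟨⟨p₁, av⟩, ⟨hav, hsq, hF⟩, -⟩ := Groth.Agent.S4131.result S G T i hT α hα pp pm hpp hpm hΩ
    (exists_not_comm hG hT (hyp_of hT hα hpp hpm hΩ))
  let v : Γ((𝟙_ (Over S)).left, ⊤)ˣ := (Gm.isUnit_gmFn p₁).unit
  have hv : ∀ X : Over S, (toUnit X).left.appTop (v : Γ((𝟙_ (Over S)).left, ⊤)) = Red.gmFn (toUnit X ≫ p₁) :=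
    fun X => by rw [Gm.gmFn_comp]; rfl
  haveI := isMonHom_gaScale (S := S) v⁻¹
  refine ⟨gaScale v⁻¹ ≫ pm, inferInstance, av, hav,
    hyp_of hT hα hpp (hpm_gaScale v⁻¹ hpm) (openImm_gaScale v⁻¹ hΩ), ?_⟩
  refine sys_of_hyp hpp (hpm_gaScale v⁻¹ hpm) hsq fun X x y hu => ?_
  have e : Red.gmFn (toUnit X ≫ p₁) * Red.gaFn x * Red.gaFn (y ≫ gaScale v⁻¹) = Red.gaFn x * Red.gaFn y := by
    rw [gaFn_comp_gaScale, ← hv]
    have := v.mul_inv
    apply_fun (toUnit X).left.appTop at this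
    rw [map_mul, map_one] at this
    linear_combination (Red.gaFn x * Red.gaFn y) * this
  obtain ⟨x', y', z, hz, hx', hy', h⟩ := (hF X x (y ≫ gaScale v⁻¹)).2 (by rw [e]; exact hu)
  refine ⟨x', y' ≫ gaScale v, z, by rw [hz, e], hx', ?_, ?_⟩
  · rw [gaFn_comp_gaScale, _root_.mul_assoc, hy', gaFn_comp_gaScale, ← _root_.mul_assoc, ← map_mul, Units.mul_inv, map_one,
      _root_.one_mul]
  · rw [← Category.assoc, ← Category.assoc, h, Category.assoc y', gaScale_comp, inv_mul_cancel, gaScale_one,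
      Category.comp_id]

set_option maxHeartbeats 300000 in
theorem Hyp.commute_of_alpha_eq_one (H : Hyp i α pp pm) {av : Red.Gm S ⟶ T} (hs : Sys i α pp pm av)
    (hG : Red.IsReductive G) {X : Over S} (t : X ⟶ T) (ht : t ≫ α = 1) (k : X ⟶ G) :
    (t ≫ i) * k = k * (t ≫ i) := by
  have hflat := (H.cellProd_flat_lfp hs hG).1
  haveI := H.cellProd_surjective hs hG
  let W : Over S := Over.mk (Limits.pullback.fst k.left (H.cellProd hs).left ≫ X.hom)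
  let c : W ⟶ X := Over.homMk (Limits.pullback.fst k.left (H.cellProd hs).left) rfl
  let d : W ⟶ H.dom2 hs := Over.homMk (Limits.pullback.snd k.left (H.cellProd hs).left) (by
    change _ = Limits.pullback.fst k.left (H.cellProd hs).left ≫ X.hom
    rw [← Over.w k, Limits.pullback.condition_assoc, Over.w (H.cellProd hs)])
  haveI : Flat (Limits.pullback.fst k.left (H.cellProd hs).left) :=
    MorphismProperty.of_isPullback (P := @Flat) (IsPullback.of_hasPullback _ _).flip hflat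
  haveI : Surjective (Limits.pullback.fst k.left (H.cellProd hs).left) :=
    MorphismProperty.of_isPullback (P := @Surjective) (IsPullback.of_hasPullback _ _).flip inferInstance
  have hc : Epi c.left := Flat.epi_of_flat_of_surjective (Limits.pullback.fst k.left (H.cellProd hs).left)
  refine RankOne.eq_of_epi hc ?_
  have e : c ≫ k = d ≫ H.cellProd hs := Over.OverMorphism.ext (Limits.pullback.condition)
  have hcp : d ≫ H.cellProd hs = (d ≫ fst _ _ ≫ Φ i pp pm) * (d ≫ snd _ _ ≫ Φ i pp pm) := by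
    rw [Hom.mul_def, ← comp_lift_assoc, ← lift_map]
    simp [cellProd]
  rw [MonObj.comp_mul, MonObj.comp_mul, e, hcp, ← Category.assoc c t]
  have ht' : (c ≫ t) ≫ α = 1 := by rw [Category.assoc, ht, MonObj.comp_one]
  generalize c ≫ t = s at ht' ⊢
  have hp : ∀ a : Γ(W.left, ⊤), Commute (s ≫ i) (P pp a) := fun a => by
    have h := H.conjP s a
    rwa [ht', Gm.gmFn_one, _root_.one_mul] at h
  have hm : ∀ a : Γ(W.left, ⊤), Commute (s ≫ i) (P pm a) := fun a => by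
    have h := H.conjM s a
    rwa [GrpObj.comp_inv, ht', inv_one, Gm.gmFn_one, _root_.one_mul] at h
  have hcell : ∀ z : W ⟶ (Red.Ga S ⊗ T) ⊗ Red.Ga S, Commute (s ≫ i) (z ≫ Φ i pp pm) := fun z => by
    obtain ⟨A, B, C, hz⟩ := (H.exists_cell_iff (z ≫ Φ i pp pm)).2 (by
      rintro _ ⟨q, rfl⟩; exact ⟨z.left q, rfl⟩)
    rw [show z ≫ Φ i pp pm = _ from hz]
    refine ((hm A).mul_right ?_).mul_right (hp C)
    change (s ≫ i) * (B ≫ i) = (B ≫ i) * (s ≫ i)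
    rw [← MonObj.mul_comp, H.comm, MonObj.mul_comp]
  have h1 := hcell (d ≫ fst _ _)
  have h2 := hcell (d ≫ snd _ _)
  rw [Category.assoc] at h1 h2
  exact (h1.mul_right h2).eq

end Groth.Agent.H82.BigCell
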