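import Groth.Agent.H82.RankOne2.Fibre
import Groth.Agent.Lib.Tori.DS


/-!
# In a reductive group the two root groups of a rank-one system do not commute on any fibre
-/

set_option autoImplicit false
set_option linter.style.haveILetI false
set_option linter.unusedSectionVars false
universe u

open CategoryTheory MonoidalCategory CartesianMonoidalCategory MonObj GrpObj AlgebraicGeometry
open Groth.Agent.Lib.RedPts Groth.Agent.Lib.GrpSch
open Groth.Agent.H82.RankOne (P P_eq P_add P_zero P_neg P_comp)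

namespace Groth.Agent.H82.BigCell

variable {S : Scheme.{u}} {G T : Over S} [GrpObj G] [GrpObj T]
  {i : T ⟶ G} {α : T ⟶ Red.Gm S} {pp pm : Red.Ga S ⟶ G}
  [IsMonHom i] [IsMonHom α] [IsMonHom pp] [IsMonHom pm]

/-- `pp` as a section of the big cell. -/
noncomputable def ppSec (T : Over S) [GrpObj T] : Red.Ga S ⟶ (Red.Ga S ⊗ T) ⊗ Red.Ga S :=
  trip (X := Red.Ga S) (0 : Γ((Red.Ga S).left, ⊤)) (1 : Red.Ga S ⟶ T) (Red.gaFn (𝟙 (Red.Ga S)))

theorem ppSec_Φ (H : Hyp i α pp pm) : ppSec T ≫ Φ i pp pm = pp := by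
  rw [ppSec, trip_Φ, P_zero, MonObj.one_comp, _root_.one_mul, _root_.one_mul, ← P_eq, Category.id_comp]

theorem ppSec_snd : ppSec T ≫ snd (Red.Ga S ⊗ T) (Red.Ga S) = 𝟙 _ := by
  rw [ppSec]
  simp only [trip, lift_snd]
  exact (Ga.eq_gaPt _ rfl).symm

theorem exists_not_comm (hG : Red.IsReductive G) (hT : Red.IsTorus T) (H : Hyp i α pp pm) (s : S) :
    ∃ (X : Over (Spec (CommRingCat.of (AlgebraicClosure (S.residueField s)))))
      (x y : X ⟶ Red.bc (Red.geomPt s) (Red.Ga S)),
      (x ≫ (Over.pullback (Red.geomPt s)).map pp) * (y ≫ (Over.pullback (Red.geomPt s)).map pm) ≠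
        (y ≫ (Over.pullback (Red.geomPt s)).map pm) * (x ≫ (Over.pullback (Red.geomPt s)).map pp) := by
  by_contra hc
  push_neg at hc
  obtain ⟨hGaff, hGsm, hGfib⟩ := hG
  obtain ⟨hA, hSm, hConn, hrad⟩ := hGfib s
  let K := AlgebraicClosure (S.residueField s)
  let f : Spec (CommRingCat.of K) ⟶ S := Red.geomPt s
  let Gk : Over (Spec (CommRingCat.of K)) := Red.bc f G
  haveI : Smooth Gk.hom := hSm
  haveI : ConnectedSpace Gk.left := hConn
  haveI : IsAffine Gk.left := hA
  -- commutation downstairs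
  have hcomm : ∀ (Y : Over (Spec (CommRingCat.of K))) (a b : Γ(((Over.map f).obj Y).left, ⊤)),
      P pp a * P pm b = P pm b * P pp a := fun Y a b => by
    have hc' : ∀ (x y : Y ⟶ Red.bc f (Red.Ga S)),
        (x ≫ (Over.pullback f).map pp) * (y ≫ (Over.pullback f).map pm) =
          (y ≫ (Over.pullback f).map pm) * (x ≫ (Over.pullback f).map pp) := hc Y
    have h := congrArg (BC.down f) (hc' (BC.up f (Ga.gaPt (X := (Over.map f).obj Y) a))
      (BC.up f (Ga.gaPt (X := (Over.map f).obj Y) b)))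
    simpa only [BC.down_mul, BC.down_map, BC.down_up, P_eq, Ga.gaFn_gaPt] using h
  let dom : Over S := (Red.Ga S ⊗ T) ⊗ Red.Ga S
  let Φk : Red.bc f dom ⟶ Gk := (Over.pullback f).map (Φ i pp pm)
  haveI : IsOpenImmersion Φk.left := bc_map_left_of f (P := @IsOpenImmersion) (Φ i pp pm) H.openImm
  haveI := H.openImm
  -- points of the cell
  have hcell : ∀ {Y : Over (Spec (CommRingCat.of K))} (g : Y ⟶ Gk),
      Set.range g.left ⊆ Set.range Φk.left ↔
        ∃ A B C, Cell i pp pm (BC.down f g) A B C := fun {Y} g => by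
    constructor
    · intro hr
      let w : Y ⟶ Red.bc f dom := Over.homMk (IsOpenImmersion.lift Φk.left g.left hr) (by
        rw [← Over.w Φk, IsOpenImmersion.lift_fac_assoc, Over.w g])
      have hw : w ≫ Φk = g := Over.OverMorphism.ext (IsOpenImmersion.lift_fac _ _ _)
      rw [H.exists_cell_iff, ← hw, BC.down_map]
      rintro _ ⟨p, rfl⟩
      exact ⟨(BC.down f w).left p, rfl⟩
    · rintro ⟨A, B, C, h⟩
      rw [Cell, ← trip_Φ] at h
      have : g = BC.up f (trip A B C) ≫ Φk := BC.down_injective (by rw [h, BC.down_map, BC.down_up])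
      rw [this]
      rintro _ ⟨p, rfl⟩
      exact ⟨(BC.up f (trip A B C)).left p, rfl⟩
  -- the cell is everything
  have hrange : ∀ (g : 𝟙_ (Over (Spec (CommRingCat.of K))) ⟶ Gk),
      (∀ x, g.left x ∈ Φk.left.opensRange) ↔ Set.range g.left ⊆ Set.range Φk.left := fun g =>
    ⟨fun h => by rintro _ ⟨x, rfl⟩; exact h x, fun h x => h ⟨x, rfl⟩⟩
  have htop : Φk.left.opensRange = ⊤ := open_subgroup_eq_top _ (fun x => by
      refine (hrange _).2 ((hcell _).2 ?_) x
      rw [BC.down_one]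
      exact ⟨_, _, _, H.cell_one⟩) (fun g h hg hh => by
      obtain ⟨A, B, C, h1⟩ := (hcell g).1 ((hrange g).1 hg)
      obtain ⟨A', B', C', h2⟩ := (hcell h).1 ((hrange h).1 hh)
      obtain ⟨A'', B'', C'', h3⟩ := H.cell_inv (hcomm _) h2
      refine (hrange _).2 ((hcell _).2 ?_)
      rw [BC.down_mul, BC.down_inv]
      exact ⟨_, _, _, H.cell_mul (hcomm _) h1 h3⟩)
  have hall : ∀ {Y : Over (Spec (CommRingCat.of K))} (g : Y ⟶ Gk),
      ∃ A B C, Cell i pp pm (BC.down f g) A B C := fun g => (hcell g).1 (by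
    rintro x -
    have : x ∈ Φk.left.opensRange := by rw [htop]; trivial
    exact this)
  haveI : Surjective Φk.left := ⟨fun x => by
    have : x ∈ Φk.left.opensRange := by rw [htop]; trivial
    exact this⟩
  haveI : IsIso Φk.left := (isIso_iff_isOpenImmersion_and_epi_base Φk.left).2
    ⟨inferInstance, (TopCat.epi_iff_surjective _).2 Φk.left.surjective⟩
  haveI : IsAffine (Red.bc f dom).left := IsAffine.of_isIso Φk.left
  -- the normal unipotent subgroup
  let U : Over (Spec (CommRingCat.of K)) := Red.bc f (Red.Ga S)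
  let iU : U ⟶ Gk := (Over.pullback f).map pp
  haveI hUsm : Smooth U.hom := bc_hom_of f (P := @Smooth) _ (smooth_Ga S)
  let aU := Red.gaFn (BC.down f (𝟙 U))
  let φ : U ⟶ Red.Ga (Spec (CommRingCat.of K)) := Ga.gaPt (X := U) aU
  let aK := Red.gaFn (𝟙 (Red.Ga (Spec (CommRingCat.of K))))
  let ψ : Red.Ga (Spec (CommRingCat.of K)) ⟶ U :=
    BC.up f (Ga.gaPt (X := (Over.map f).obj (Red.Ga (Spec (CommRingCat.of K)))) aK)
  have hφ : ∀ {Y : Over (Spec (CommRingCat.of K))} (x : Y ⟶ U),
      Red.gaFn (x ≫ φ) = Red.gaFn (BC.down f x) := fun {Y} x => by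
    simp only [φ, aU]
    rw [Ga.gaFn_comp, Ga.gaFn_gaPt]
    have := BC.down_comp x (𝟙 U)
    rw [Category.comp_id] at this
    rw [this, Ga.gaFn_comp]
    rfl
  haveI : IsMonHom φ := Groth.Agent.H87.HomDS.isMonHom_of_points φ fun X x y =>
    Ga.gaFn_injective (by
      rw [Ga.gaFn_mul, hφ, hφ, hφ, BC.down_mul]
      exact Ga.gaFn_mul (S := S) _ _)
  have hψφ : ψ ≫ φ = 𝟙 _ := Ga.gaFn_injective (by
    rw [hφ]
    simp only [ψ, aK, BC.down_up]
    exact Ga.gaFn_gaPt _)
  have hφψ : φ ≫ ψ = 𝟙 _ := BC.down_injective (Ga.gaFn_injective (by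
    rw [← hφ, Category.assoc, hψφ, Category.comp_id, ← hφ, Category.id_comp]))
  haveI : IsIso φ := ⟨ψ, hφψ, hψφ⟩
  haveI hUconn : ConnectedSpace U.left := by
    haveI := connected_Ga K
    have hs : Function.Surjective ψ.left := fun x => ⟨φ.left x, by
      rw [← Scheme.Hom.comp_apply, ← Over.comp_left, hφψ]; rfl⟩
    exact hs.connectedSpace (Scheme.Hom.continuous _)
  have hclosed : IsClosedImmersion iU.left := by
    have e : iU = (Over.pullback f).map (ppSec T) ≫ Φk := by
      simp only [iU, Φk, ← Functor.map_comp, ppSec_Φ H]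
    have e2 : (Over.pullback f).map (ppSec T) ≫ (Over.pullback f).map (snd (Red.Ga S ⊗ T) (Red.Ga S)) = 𝟙 U := by
      rw [← Functor.map_comp, ppSec_snd, CategoryTheory.Functor.map_id]
    haveI : IsSeparated ((Over.pullback f).map (snd (Red.Ga S ⊗ T) (Red.Ga S))).left := inferInstance
    haveI : IsClosedImmersion ((Over.pullback f).map (ppSec T)).left := by
      have h2 : IsClosedImmersion (((Over.pullback f).map (ppSec T)).left ≫
          ((Over.pullback f).map (snd (Red.Ga S ⊗ T) (Red.Ga S))).left) := by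
        rw [← Over.comp_left, e2, Over.id_left]; infer_instance
      exact IsClosedImmersion.of_comp _ ((Over.pullback f).map (snd (Red.Ga S ⊗ T) (Red.Ga S))).left
    rw [e, Over.comp_left]
    infer_instance
  have hnormal : AlgGrp.IsNormalHom iU := fun Y g n => by
    obtain ⟨A, B, C, h⟩ := hall g
    refine ⟨BC.up f (Ga.gaPt (Red.gmFn (B ≫ α) * Red.gaFn (BC.down f n))), BC.down_injective ?_⟩
    rw [BC.down_mul, BC.down_mul, BC.down_inv, BC.down_map, BC.down_map, BC.down_up, P_eq pp (BC.down f n),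
      H.cell_conj_pp (hcomm _) h, P_eq, Ga.gaFn_gaPt]
  have hsub : Red.HasNoSubtorus K U := fun T' instT j hj hmj hT' => by
    letI := instT; haveI := hj; haveI := hmj
    have h1 : j ≫ φ = 1 := torus_hom_Ga_eq_one T' hT' (j ≫ φ)
    have h2 : j = 1 := by
      rw [← cancel_mono φ, h1, MonObj.one_comp φ]
    have h3 : 𝟙 T' = (1 : T' ⟶ T') := by
      rw [← cancel_mono j, Category.id_comp, MonObj.one_comp j, h2]
    refine ⟨⟨η[T'].left, ?_, Over.w η[T']⟩⟩
    have h4 := congrArg Over.Hom.left h3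
    rw [Hom.one_def, Over.comp_left, Over.id_left] at h4
    exact h4.symm
  have htriv : IsIso U.hom := hrad U iU hclosed hUsm hUconn hnormal hsub
  have h01 : BC.up f (Ga.gaPt (X := (Over.map f).obj (𝟙_ (Over (Spec (CommRingCat.of K))))) 0) =
      BC.up f (Ga.gaPt (X := (Over.map f).obj (𝟙_ (Over (Spec (CommRingCat.of K))))) 1) :=
    Over.OverMorphism.ext ((cancel_mono U.hom).1 ((Over.w _).trans (Over.w _).symm))
  have h01' := congrArg (fun z => Red.gaFn (BC.down f z)) h01
  simp only [BC.down_up, Ga.gaFn_gaPt] at h01'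
  haveI : Nontrivial Γ(Spec (CommRingCat.of K), ⊤) :=
    (Scheme.ΓSpecIso (CommRingCat.of K)).commRingCatIsoToRingEquiv.toEquiv.nontrivial
  exact zero_ne_one (α := Γ(Spec (CommRingCat.of K), ⊤)) h01'

end Groth.Agent.H82.BigCell
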