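import Groth.Agent.H82.RankOne2.Iso
import Groth.Agent.Lib.SourceDescent.Ring

/-!
# Homomorphisms of rank-one systems with faithfully flat torus part
-/

set_option autoImplicit false
set_option linter.style.haveILetI false
set_option linter.unusedSectionVars false
universe u

open CategoryTheory MonoidalCategory CartesianMonoidalCategory MonObj GrpObj AlgebraicGeometry
open Groth.Agent.Lib.RedPts Groth.Agent.Lib.GrpSch
open Groth.Agent.H82.RankOne (P P_eq P_add P_zero P_neg P_comp gmPt_eq gmPt_comp Sys)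

namespace Groth.Agent.H82.BigCell

theorem flat_of_flat_comp {X Y Z : Scheme.{u}} (p : X ⟶ Y) (f : Y ⟶ Z) [Flat p] [Surjective p]
    [Flat (p ≫ f)] : Flat f := by
  refine Flat.of_stalkMap _ fun y => ?_
  obtain ⟨x, rfl⟩ := p.surjective y
  have h := Flat.stalkMap (p ≫ f) x
  rw [Scheme.Hom.stalkMap_comp] at h
  replace h : ((p.stalkMap x).hom.comp (f.stalkMap (p x)).hom).Flat := h
  algebraize [(f.stalkMap (p x)).hom, (p.stalkMap x).hom, (p.stalkMap x).hom.comp (f.stalkMap (p x)).hom]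
  haveI : Module.FaithfullyFlat (Y.presheaf.stalk (p x)) (X.presheaf.stalk x) :=
    @Module.FaithfullyFlat.of_flat_of_isLocalHom _ _ _ _ _ _ _ (Flat.stalkMap p x) (p.toLRSHom.prop x)
  haveI : Module.Flat (Z.presheaf.stalk (f (p x))) (X.presheaf.stalk x) := h
  exact Groth.Agent.Lib.SourceDescent.Ring.flat_of_comp _ _ (X.presheaf.stalk x)

variable {S : Scheme.{u}}

/-- `x ↦ v x`. -/
noncomputable def scale1 (v : Γ((𝟙_ (Over S)).left, ⊤)ˣ) : Red.Ga S ⟶ Red.Ga S :=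
  scaleHom (𝟙 (Red.Ga S)) v 1

theorem gaPt_scale1 (v : Γ((𝟙_ (Over S)).left, ⊤)ˣ) {X : Over S} (a : Γ(X.left, ⊤)) :
    Ga.gaPt a ≫ scale1 v = Ga.gaPt ((cst v X : Γ(X.left, ⊤)) * a) := by
  rw [scale1, scaleHom, Category.comp_id]
  apply Ga.eq_gaPt
  rw [Ga.gaFn_comp, Ga.gaFn_gaPt, map_mul, map_pow, cst_comp_val, ← Ga.gaFn_comp, Category.comp_id,
    Ga.gaFn_gaPt, pow_one]

theorem isIso_scale1 (v : Γ((𝟙_ (Over S)).left, ⊤)ˣ) : IsIso (scale1 v) := by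
  have h : ∀ w : Γ((𝟙_ (Over S)).left, ⊤)ˣ, scale1 w ≫ scale1 w⁻¹ = 𝟙 _ := fun w => by
    rw [show scale1 w = Ga.gaPt (Red.gaFn (𝟙 (Red.Ga S))) ≫ scale1 w by
      rw [← Ga.eq_gaPt (𝟙 (Red.Ga S)) rfl, Category.id_comp], gaPt_scale1, gaPt_scale1, cst_inv,
      Units.inv_mul_cancel_left, ← Ga.eq_gaPt (𝟙 (Red.Ga S)) rfl]
  exact ⟨scale1 v⁻¹, h v, by simpa using h v⁻¹⟩

variable {G T G' T' : Over S} [GrpObj G] [GrpObj T] [GrpObj G'] [GrpObj T']
  {i : T ⟶ G} {α : T ⟶ Red.Gm S} {pp pm : Red.Ga S ⟶ G} {av : Red.Gm S ⟶ T}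
  [IsMonHom i] [IsMonHom α] [IsMonHom pp] [IsMonHom pm]
  {i' : T' ⟶ G'} {α' : T' ⟶ Red.Gm S} {pp' pm' : Red.Ga S ⟶ G'} {av' : Red.Gm S ⟶ T'}
  [IsMonHom i'] [IsMonHom α'] [IsMonHom pp'] [IsMonHom pm'] [IsMonHom av']

theorem Φ_comp_hom {f : G ⟶ G'} [IsMonHom f] {fT : T ⟶ T'} {v : Γ((𝟙_ (Over S)).left, ⊤)ˣ}
    (hi : i ≫ f = fT ≫ i') (hp : MapsPP pp pp' f v 1) (hm : MapsPM pm pm' f v 1) :
    Φ i pp pm ≫ f = ((scale1 v⁻¹ ⊗ₘ fT) ⊗ₘ scale1 v) ≫ Φ i' pp' pm' := by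
  obtain ⟨A, B, C, h⟩ := exists_trip (𝟙 ((Red.Ga S ⊗ T) ⊗ Red.Ga S))
  rw [← Category.id_comp (Φ i pp pm), ← Category.id_comp ((scale1 v⁻¹ ⊗ₘ fT) ⊗ₘ scale1 v), h]
  have e : trip A B C ≫ ((scale1 v⁻¹ ⊗ₘ fT) ⊗ₘ scale1 v) =
      trip ((cst v⁻¹ ((Red.Ga S ⊗ T) ⊗ Red.Ga S) : Γ(((Red.Ga S ⊗ T) ⊗ Red.Ga S).left, ⊤)) * A) (B ≫ fT)
        ((cst v ((Red.Ga S ⊗ T) ⊗ Red.Ga S) : Γ(((Red.Ga S ⊗ T) ⊗ Red.Ga S).left, ⊤)) * C) := by
    simp only [trip, lift_map, gaPt_scale1]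
  rw [e, trip_Φ, trip_Φ, MonObj.mul_comp _ _ f, MonObj.mul_comp _ _ f, hp, hm, Category.assoc, hi,
    ← Category.assoc, pow_one, pow_one, cst_inv]

namespace Hyp

variable (H : Hyp i α pp pm) (hs : Sys i α pp pm av) (H' : Hyp i' α' pp' pm') (hs' : Sys i' α' pp' pm' av')
include H hs H' hs'

theorem flat_surjective_of_fT (hG : Red.IsReductive G) (hG' : Red.IsReductive G') {f : G ⟶ G'} [IsMonHom f]
    {fT : T ⟶ T'} {v : Γ((𝟙_ (Over S)).left, ⊤)ˣ} (hfl : Flat fT.left) (hsu : Surjective fT.left)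
    (hi : i ≫ f = fT ≫ i') (hp : MapsPP pp pp' f v 1) (hm : MapsPM pm pm' f v 1) :
    Flat f.left ∧ Surjective f.left := by
  haveI := (H.cellProd_flat_lfp hs hG).1
  haveI := H.cellProd_surjective hs hG
  haveI := (H'.cellProd_flat_lfp hs' hG').1
  haveI := H'.cellProd_surjective hs' hG'
  haveI : MorphismProperty.IsStableUnderComposition @Surjective.{u} :=
    ⟨fun f g hf hg => by infer_instance⟩
  let ψ := (scale1 v⁻¹ ⊗ₘ fT) ⊗ₘ scale1 v
  haveI := isIso_scale1 v; haveI := isIso_scale1 v⁻¹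
  haveI : IsIso (scale1 v).left := inferInstanceAs (IsIso ((Over.forget S).map (scale1 v)))
  haveI : IsIso (scale1 v⁻¹).left := inferInstanceAs (IsIso ((Over.forget S).map (scale1 v⁻¹)))
  haveI : Flat ψ.left := tensorHom_left_of (P := @Flat) _ _
    (tensorHom_left_of (P := @Flat) _ _ inferInstance hfl) inferInstance
  haveI : Surjective ψ.left := tensorHom_left_of (P := @Surjective) _ _
    (tensorHom_left_of (P := @Surjective) _ _ inferInstance hsu) inferInstance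
  haveI : Flat (ψ ⊗ₘ ψ).left := tensorHom_left_of (P := @Flat) _ _ inferInstance inferInstance
  haveI : Surjective (ψ ⊗ₘ ψ).left := tensorHom_left_of (P := @Surjective) _ _ inferInstance inferInstance
  have e : H.cellProd hs ≫ f = (ψ ⊗ₘ ψ) ≫ H'.cellProd hs' := by
    change ((Φ i pp pm ⊗ₘ Φ i pp pm) ≫ μ[G]) ≫ f = (ψ ⊗ₘ ψ) ≫ (Φ i' pp' pm' ⊗ₘ Φ i' pp' pm') ≫ μ[G']
    rw [Category.assoc, IsMonHom.mul_hom f, tensorHom_comp_tensorHom_assoc, tensorHom_comp_tensorHom_assoc,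
      Φ_comp_hom hi hp hm]
  have e' : (H.cellProd hs).left ≫ f.left = (ψ ⊗ₘ ψ).left ≫ (H'.cellProd hs').left := by
    rw [← Over.comp_left, e, Over.comp_left]
  haveI : Flat ((H.cellProd hs).left ≫ f.left) := by rw [e']; infer_instance
  haveI : Surjective ((H.cellProd hs).left ≫ f.left) := by rw [e']; infer_instance
  exact ⟨flat_of_flat_comp (H.cellProd hs).left f.left, Surjective.of_comp (H.cellProd hs).left f.left⟩

theorem isKernel_of_fT (hG : Red.IsReductive G) {f : G ⟶ G'} [IsMonHom f] {fT : T ⟶ T'}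
    {v : Γ((𝟙_ (Over S)).left, ⊤)ˣ} (hi : i ≫ f = fT ≫ i') (hp : MapsPP pp pp' f v 1)
    (hm : MapsPM pm pm' f v 1) {Q : Over S} {k : Q ⟶ T} (hk : AlgGrp.IsKernel k fT) :
    AlgGrp.IsKernel (k ≫ i) f := by
  haveI := H.monoI; haveI := H'.monoI
  have hq : IsAddPow S 1 := fun X a b => by simp only [pow_one]
  have hW := mapsW_of_mapsPM f hq one_pos hp hm
  have hk1 : k ≫ fT = 1 := by rw [hk.w, Gm.η_eq_one, MonObj.comp_one]
  have hcell : ∀ {X : Over S} (z : X ⟶ G), z ≫ f = 1 → ∃ b : X ⟶ Q, b ≫ k ≫ i = z := by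
    intro X z hz
    obtain ⟨A, B, C, h⟩ := (H.exists_cell_iff z).2 (by
      rintro _ ⟨p, rfl⟩
      haveI : IsAffine (ptObj X p).left := inferInstanceAs (IsAffine (Spec (X.left.residueField p)))
      obtain ⟨Y, c, hY, -, hc, hb⟩ := H.exists_inBruhat hs hG (ptObj X p) (isField_ptObj X p) (ptHom X p ≫ z)
      haveI := hY; haveI := hc
      obtain ⟨p', hp'⟩ := mem_range_ptHom X p
      obtain ⟨q, hq'⟩ := c.left.surjective p'
      have hzy : (c ≫ ptHom X p ≫ z) ≫ f = 1 := by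
        simp only [Category.assoc, hz, MonObj.comp_one]
      rcases hb with ⟨A, B, C, h⟩ | ⟨t, C, h⟩
      · have hr := (H.exists_cell_iff _).1 ⟨A, B, C, h⟩ ⟨q, rfl⟩
        rw [← hp', ← hq']
        exact hr
      · exfalso
        rw [h, MonObj.mul_comp _ _ f, MonObj.mul_comp _ _ f, w₀, hW, one_pow, _root_.mul_one, hp,
          Category.assoc, hi] at hzy
        have hWv : Sys.W pp' pm' (cst v Y) = Sys.H i' av' (cst v Y) * w₀ pp' pm' Y := by
          rw [w₀, ← hs'.W_mul, _root_.mul_one]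
        rw [hWv, _root_.mul_assoc, _root_.mul_assoc, mul_eq_one_iff_eq_inv', eq_inv_iff_mul_eq_one,
          _root_.mul_assoc] at hzy
        have e : w₀ pp' pm' Y = P pm' (0 : Γ(Y.left, ⊤)) * (((Gm.gmPt (cst v Y) ≫ av'))⁻¹ ≫ i') *
            P pp' (-((cst v Y : Γ(Y.left, ⊤)) * C ^ 1)) * ((t ≫ fT)⁻¹ ≫ i') * P pp' 0 := by
          rw [P_zero, P_zero, GrpObj.inv_comp _ i', GrpObj.inv_comp _ i', P_neg, Category.assoc _ av',
            ← Sys.H, Category.assoc, _root_.one_mul, _root_.mul_one]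
          rw [eq_inv_iff_mul_eq_one.2 hzy]
          group
        have hc' := H'.cell_mul_right (H'.cell_pt (0 : Γ(Y.left, ⊤)) ((Gm.gmPt (cst v Y) ≫ av'))⁻¹
          (-((cst v Y : Γ(Y.left, ⊤)) * C ^ 1))) ((t ≫ fT)⁻¹) 0
        rw [← e] at hc'
        exact H'.w₀_not_cell hs' ⟨q⟩ _ _ _ hc')
    rw [Cell] at h
    have hf := hz
    rw [h, MonObj.mul_comp _ _ f, MonObj.mul_comp _ _ f, hm, hp, Category.assoc, hi, ← Category.assoc] at hf
    have h1 : Cell i' pp' pm' (1 : X ⟶ G') 0 1 0 := by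
      rw [Cell, P_zero, P_zero, MonObj.one_comp, _root_.one_mul, _root_.one_mul]
    obtain ⟨eA, eB, eC⟩ := H'.unique (f := (1 : X ⟶ G')) hf.symm h1
    rw [pow_one] at eA eC
    rw [Units.mul_right_eq_zero] at eA eC
    subst eA eC
    refine ⟨hk.lift B (toUnit X) (by rw [eB, Gm.η_eq_one, MonObj.comp_one]), ?_⟩
    rw [hk.lift_fst_assoc, h, P_zero, P_zero, _root_.one_mul, _root_.mul_one]
  have hcond : ∀ s : Limits.PullbackCone f η[G'], s.fst ≫ f = 1 := fun s =>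
    s.condition.trans ((congrArg (s.snd ≫ ·) (Gm.η_eq_one G')).trans (MonObj.comp_one _))
  refine ⟨⟨?_⟩, ⟨Limits.PullbackCone.IsLimit.mk _ (fun s => (hcell s.fst (hcond s)).choose)
    (fun s => (hcell s.fst (hcond s)).choose_spec) (fun s => toUnit_unique _ _) fun s m hm₁ _ => ?_⟩⟩
  · rw [Category.assoc, hi, ← Category.assoc, hk1, MonObj.one_comp, Gm.η_eq_one, MonObj.comp_one]
  · apply hk.hom_ext
    · rw [← cancel_mono i, Category.assoc, hm₁, Category.assoc]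
      exact (hcell s.fst (hcond s)).choose_spec.symm
    · exact toUnit_unique _ _

end Hyp

end Groth.Agent.H82.BigCell
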