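import Groth.Agent.H82.RankOne2.Weight
import Groth.Agent.H82.BigCell.Main
import Groth.Agent.Lib.Tori.Character
import Groth.Agent.Lib.Tori.Comm

/-!
# Working hypotheses from statement-form hypotheses
-/

set_option autoImplicit false
set_option linter.style.haveILetI false
set_option linter.unusedSectionVars false
universe u

open CategoryTheory MonoidalCategory CartesianMonoidalCategory MonObj GrpObj AlgebraicGeometry
open Groth.Agent.Lib.RedPts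
open Groth.Agent.H82.RankOne (P P_eq P_add P_zero P_neg P_comp gmPt_eq gmPt_comp)

namespace Groth.Agent.H82.BigCell

variable {S : Scheme.{u}} {G T : Over S} [GrpObj G] [GrpObj T]
  {i : T ⟶ G} {α : T ⟶ Red.Gm S} {pp pm : Red.Ga S ⟶ G}
  [IsMonHom i] [IsMonHom α] [IsMonHom pp] [IsMonHom pm]

theorem conjP_of (hpp : ∀ (X : Over S) (t : X ⟶ T) (x : X ⟶ Red.Ga S), ∃ x' : X ⟶ Red.Ga S,
      x' ≫ pp = (t ≫ i) * (x ≫ pp) * (t ≫ i)⁻¹ ∧ Red.gaFn x' = Red.gmFn (t ≫ α) * Red.gaFn x)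
    {X : Over S} (t : X ⟶ T) (a : Γ(X.left, ⊤)) :
    (t ≫ i) * P pp a = P pp (Red.gmFn (t ≫ α) * a) * (t ≫ i) := by
  obtain ⟨x', h, h'⟩ := hpp X t (Ga.gaPt a)
  rw [Ga.gaFn_gaPt] at h'
  rw [P_eq, h', P_eq, Ga.gaFn_gaPt] at h
  rw [h, inv_mul_cancel_right]

theorem conjM_of (hpm : ∀ (X : Over S) (t : X ⟶ T) (y : X ⟶ Red.Ga S), ∃ y' : X ⟶ Red.Ga S,
      y' ≫ pm = (t ≫ i) * (y ≫ pm) * (t ≫ i)⁻¹ ∧ Red.gaFn y' * Red.gmFn (t ≫ α) = Red.gaFn y)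
    {X : Over S} (t : X ⟶ T) (b : Γ(X.left, ⊤)) :
    (t ≫ i) * P pm b = P pm (Red.gmFn (t ≫ α⁻¹) * b) * (t ≫ i) := by
  obtain ⟨y', h, h'⟩ := hpm X t (Ga.gaPt b)
  rw [Ga.gaFn_gaPt] at h'
  have : Red.gaFn y' = Red.gmFn (t ≫ α⁻¹) * b := by
    rw [GrpObj.comp_inv, ← h', mul_left_comm, Gm.gmFn_inv_mul_gmFn, _root_.mul_one]
  rw [P_eq, this, P_eq, Ga.gaFn_gaPt] at h
  rw [h, inv_mul_cancel_right]

/-- Working hypotheses from a lifting property of the character. -/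
theorem hyp_of_lift [Mono i] (hT : Red.IsTorus T)
    (hlift : ∀ {X : Over S} (z : X ⟶ Red.Gm S), ∃ (X' : Over S) (c : X' ⟶ X) (t : X' ⟶ T),
      Epi c.left ∧ Surjective c.left ∧ t ≫ α = c ≫ z)
    (hpp : ∀ (X : Over S) (t : X ⟶ T) (x : X ⟶ Red.Ga S), ∃ x' : X ⟶ Red.Ga S,
      x' ≫ pp = (t ≫ i) * (x ≫ pp) * (t ≫ i)⁻¹ ∧ Red.gaFn x' = Red.gmFn (t ≫ α) * Red.gaFn x)
    (hpm : ∀ (X : Over S) (t : X ⟶ T) (y : X ⟶ Red.Ga S), ∃ y' : X ⟶ Red.Ga S,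
      y' ≫ pm = (t ≫ i) * (y ≫ pm) * (t ≫ i)⁻¹ ∧ Red.gaFn y' * Red.gmFn (t ≫ α) = Red.gaFn y)
    (hΩ : IsOpenImmersion (((pm ⊗ₘ i) ⊗ₘ pp) ≫ (μ[G] ▷ G) ≫ μ[G]).left) : Hyp i α pp pm where
  openImm := hΩ
  monoI := inferInstance
  comm a b := Groth.Agent.Lib.Tori.Comm.mul_comm_of_isTorus hT a b
  conjP t a := conjP_of hpp t a
  conjM t b := conjM_of hpm t b
  lift z := hlift z

/-- A character of a torus, nontrivial on every geometric fibre, lifts points. -/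
theorem lift_of_geomFibres (hT : Red.IsTorus T) (hα : ∀ s : S, (Over.pullback (Red.geomPt s)).map α ≠ 1)
    {X : Over S} (z : X ⟶ Red.Gm S) : ∃ (X' : Over S) (c : X' ⟶ X) (t : X' ⟶ T),
      Epi c.left ∧ Surjective c.left ∧ t ≫ α = c ≫ z := by
  obtain ⟨hfl, hsu⟩ := Groth.Agent.Lib.Tori.Character.flat_surjective_of_geomFibres α hT hα
  exact Groth.Agent.Lib.Tori.Character.exists_lift α z

/-- Working hypotheses from the usual statement hypotheses. -/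
theorem hyp_of [Mono i] (hT : Red.IsTorus T) (hα : ∀ s : S, (Over.pullback (Red.geomPt s)).map α ≠ 1)
    (hpp : ∀ (X : Over S) (t : X ⟶ T) (x : X ⟶ Red.Ga S), ∃ x' : X ⟶ Red.Ga S,
      x' ≫ pp = (t ≫ i) * (x ≫ pp) * (t ≫ i)⁻¹ ∧ Red.gaFn x' = Red.gmFn (t ≫ α) * Red.gaFn x)
    (hpm : ∀ (X : Over S) (t : X ⟶ T) (y : X ⟶ Red.Ga S), ∃ y' : X ⟶ Red.Ga S,
      y' ≫ pm = (t ≫ i) * (y ≫ pm) * (t ≫ i)⁻¹ ∧ Red.gaFn y' * Red.gmFn (t ≫ α) = Red.gaFn y)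
    (hΩ : IsOpenImmersion (((pm ⊗ₘ i) ⊗ₘ pp) ≫ (μ[G] ▷ G) ≫ μ[G]).left) : Hyp i α pp pm :=
  hyp_of_lift hT (lift_of_geomFibres hT hα) hpp hpm hΩ

end Groth.Agent.H82.BigCell
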