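import Groth.Agent.H82.RankOne2.TransferStmt
import Groth.Agent.H82.RankOne2.Normalise

/-!
# Homomorphisms of rank-one systems and their restriction to the torus
-/

set_option autoImplicit false
set_option linter.style.haveILetI false
set_option linter.unusedSectionVars false
universe u

open CategoryTheory MonoidalCategory CartesianMonoidalCategory MonObj GrpObj AlgebraicGeometry
open Groth.Agent.Lib.RedPts
open Groth.Agent.H82.RankOne (P P_eq P_add P_zero P_neg P_comp gmPt_eq gmPt_comp Sys)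

namespace Groth.Agent.H82.BigCell

variable {S : Scheme.{u}} {G T G' T' : Over S} [GrpObj G] [GrpObj T] [GrpObj G'] [GrpObj T']
  {i : T ⟶ G} {α : T ⟶ Red.Gm S} {pp pm : Red.Ga S ⟶ G} {av : Red.Gm S ⟶ T}
  {i' : T' ⟶ G'} {α' : T' ⟶ Red.Gm S} {pp' pm' : Red.Ga S ⟶ G'} {av' : Red.Gm S ⟶ T'}
  [IsMonHom i] [IsMonHom α] [IsMonHom pp] [IsMonHom pm]
  [IsMonHom i'] [IsMonHom α'] [IsMonHom pp'] [IsMonHom pm'] [IsMonHom av']
  (f : G ⟶ G') [IsMonHom f] {q : ℕ}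

theorem exists_mapsPP (H : Hyp i α pp pm) (hs : Sys i α pp pm av) (H' : Hyp i' α' pp' pm')
    (hs' : Sys i' α' pp' pm' av') (hG' : Red.IsReductive G') [IsAffineHom T'.hom] (hq0 : 0 < q)
    (fT : T ⟶ T') (hfT : i ≫ f = fT ≫ i') (hα : fT ≫ α' = α ^ q) (hc : MapsCoroot i av i' av' f q) :
    ∃ v : Γ((𝟙_ (Over S)).left, ⊤)ˣ, MapsPP pp pp' f v q := by
  have hw : HasWeight i' α' (pp ≫ f) q := fun X u x => by
    obtain ⟨X₁, c₁, s, hc₁, hs₁, h₁⟩ := H.lift (Gm.gmPt u)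
    obtain ⟨X₂, c₂, t, hc₂, hs₂, h₂⟩ := H'.lift (c₁ ≫ Gm.gmPt u)
    refine ⟨X₂, c₂ ≫ c₁, t, ?_, ?_, ?_, ?_⟩
    · rw [Over.comp_left]; exact epi_comp' hc₂ hc₁
    · rw [Over.comp_left]; infer_instance
    · rw [h₂, ← Category.assoc, Gm.gmFn_comp, Gm.gmFn_gmPt]
    · have hsu : Red.gmFn ((c₂ ≫ s) ≫ α) = (c₂ ≫ c₁).left.appTop (u : Γ(X.left, ⊤)) := by
        rw [Category.assoc, h₁, ← Category.assoc, Gm.gmFn_comp, Gm.gmFn_gmPt]
      have hker : ((t ^ q)⁻¹ * ((c₂ ≫ s) ≫ fT)) ≫ α' = 1 := by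
        rw [MonObj.mul_comp _ _ α', GrpObj.inv_comp _ α', MonObj.pow_comp _ _ α', Category.assoc (c₂ ≫ s),
          hα, MonObj.comp_pow, h₂, Category.assoc c₂ s, h₁, inv_mul_cancel]
      have hcm := H'.commute_of_alpha_eq_one hs' hG' _ hker (P (pp ≫ f) ((c₂ ≫ c₁).left.appTop x))
      have e : P (pp ≫ f) ((c₂ ≫ c₁).left.appTop (u : Γ(X.left, ⊤)) * (c₂ ≫ c₁).left.appTop x) =
          (((c₂ ≫ s) ≫ fT) ≫ i') * P (pp ≫ f) ((c₂ ≫ c₁).left.appTop x) * (((c₂ ≫ s) ≫ fT) ≫ i')⁻¹ := by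
        rw [Category.assoc (c₂ ≫ s) fT i', ← hfT, ← Category.assoc (c₂ ≫ s) i f]
        simp only [P]
        rw [← GrpObj.inv_comp _ f, ← Category.assoc _ pp f, ← Category.assoc _ pp f, ← MonObj.mul_comp _ _ f,
          ← MonObj.mul_comp _ _ f]
        congr 1
        have := H.conjP (c₂ ≫ s) ((c₂ ≫ c₁).left.appTop x)
        rw [hsu] at this
        simp only [P] at this
        rw [eq_mul_inv_iff_mul_eq, this]
      rw [e, show ((c₂ ≫ s) ≫ fT) = t ^ q * ((t ^ q)⁻¹ * ((c₂ ≫ s) ≫ fT)) by rw [mul_inv_cancel_left],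
        MonObj.mul_comp _ _ i', MonObj.pow_comp _ _ i', _root_.mul_assoc _ ((_ : X₂ ⟶ T') ≫ i'), hcm]
      group
  have hu : IsUnit (H'.wCoef hw (𝟙_ (Over S))) := isUnit_of_points _ fun p => by
    rw [H'.wCoef_comp hw]
    haveI : IsAffine (ptObj (𝟙_ (Over S)) p).left :=
      inferInstanceAs (IsAffine (Spec ((𝟙_ (Over S)).left.residueField p)))
    have hk := isField_ptObj (𝟙_ (Over S)) p
    refine FEq.isUnit_of_ne_zero _ hk fun h0 => ?_
    obtain ⟨p', -⟩ := mem_range_ptHom (𝟙_ (Over S)) p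
    obtain ⟨Y, e, t, hY, -, he, hu, -⟩ := exists_generic (ptObj (𝟙_ (Over S)) p)
      ![Polynomial.X, Polynomial.X ^ (4 * q) - 1]
      (fun k => by
        fin_cases k
        · exact ⟨1, by simp⟩
        · exact ⟨4 * q, by simp [Polynomial.coeff_one, hq0.ne']⟩)
    haveI := hY
    have h0' := hu 0; have h1' := hu 1
    simp at h0' h1'
    obtain ⟨u, hut⟩ := h0'
    haveI := nontrivial_of_surjective e ⟨p'⟩
    have hz : H'.wCoef hw Y = 0 := by rw [← H'.wCoef_comp hw e, h0, map_zero]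
    have hpp : ∀ a : Γ(Y.left, ⊤), P pp a ≫ f = 1 := fun a => by
      have h := H'.weight_formula hw a
      rw [hz, zero_mul, P_zero] at h
      rw [P, Category.assoc]; exact h
    have hpm : ∀ b : Γ(Y.left, ⊤), P pm b ≫ f = 1 := fun b => by
      have e' : P pm b = w₀ pp pm Y * P pp (-b) * (w₀ pp pm Y)⁻¹ := by
        rw [H.w₀_mul_pp hs, neg_neg, mul_inv_cancel_right]
      rw [e', MonObj.mul_comp _ _ f, MonObj.mul_comp _ _ f, hpp, _root_.mul_one, GrpObj.inv_comp _ f,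
        mul_inv_cancel]
    have hw0 : w₀ pp pm Y ≫ f = 1 := by
      rw [w₀, Sys.W, MonObj.mul_comp _ _ f, MonObj.mul_comp _ _ f, hpp, hpm, _root_.one_mul, _root_.one_mul]
    have h2 := congrArg (fun g => g ≫ f) (hs.W_mul_H u (1 : Γ(Y.left, ⊤)ˣ))
    rw [MonObj.mul_comp _ _ f, MonObj.mul_comp _ _ f, GrpObj.inv_comp _ f, hw0, _root_.one_mul,
      _root_.mul_one, hc, eq_inv_iff_mul_eq_one] at h2
    haveI := H'.monoI
    rw [Sys.H, ← Category.assoc, ← MonObj.mul_comp _ _ i'] at h2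
    have h3 : (Gm.gmPt (u ^ q) ≫ av') * (Gm.gmPt (u ^ q) ≫ av') = 1 := by
      rw [← cancel_mono i', h2, MonObj.one_comp i']
    have h4 := congrArg (fun z => Red.gmFn (z ≫ α')) h3
    simp only [MonObj.mul_comp _ _ α', MonObj.one_comp α', Gm.gmFn_mul, Gm.gmFn_one, hs'.sq,
      Units.val_pow_eq_pow_val, hut] at h4
    rw [show t ^ (4 * q) = 1 by rw [← h4]; ring, sub_self] at h1'
    exact not_isUnit_zero h1'
  refine ⟨hu.unit, fun X x => ?_⟩
  have h := H'.weight_formula hw x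
  rw [P, Category.assoc]
  refine h.trans ?_
  congr 2
  rw [← H'.wCoef_comp hw (toUnit X)]
  rfl

theorem mapsPP_unique (H' : Hyp i' α' pp' pm') {v v' : Γ((𝟙_ (Over S)).left, ⊤)ˣ}
    (h : MapsPP pp pp' f v q) (h' : MapsPP pp pp' f v' q) : v = v' := by
  have e := (h (𝟙_ (Over S)) 1).symm.trans (h' (𝟙_ (Over S)) 1)
  have e' := H'.P_pp_injective e
  rw [one_pow, _root_.mul_one, _root_.mul_one] at e'
  have hid : ∀ w : Γ((𝟙_ (Over S)).left, ⊤)ˣ, (cst w (𝟙_ (Over S)) : Γ((𝟙_ (Over S)).left, ⊤)) = w := fun w => by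
    change (toUnit (𝟙_ (Over S))).left.appTop (w : Γ((𝟙_ (Over S)).left, ⊤)) = w
    rw [toUnit_unique (toUnit (𝟙_ (Over S))) (𝟙 _)]
    simp
  rw [hid, hid] at e'
  exact Units.ext e'

theorem exists_fT (H : Hyp i α pp pm) (H' : Hyp i' α' pp' pm')
    (hs' : Sys i' α' pp' pm' av') (hG' : Red.IsReductive G') (hq0 : 0 < q) [IsMonHom av]
    {v : Γ((𝟙_ (Over S)).left, ⊤)ˣ} (hp : MapsPP pp pp' f v q) (hc : MapsCoroot i av i' av' f q) :
    ∃ fT : T ⟶ T', IsMonHom fT ∧ i ≫ f = fT ≫ i' ∧ fT ≫ α' = α ^ q ∧ av ≫ fT = av' ^ q := by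
  haveI := H'.monoI
  obtain ⟨fT, hfT⟩ := H'.mem_torus_of_comm hs' hG' q hq0 (i ≫ f) fun X c u => by
    rw [← hc X u, ← Category.assoc c i f, ← MonObj.mul_comp _ _ f, ← MonObj.mul_comp _ _ f]
    congr 1
    rw [Sys.H, ← Category.assoc, ← MonObj.mul_comp _ _ i, H.comm, MonObj.mul_comp _ _ i]
  haveI hmon : IsMonHom fT := Groth.Agent.H87.HomDS.isMonHom_of_points fT fun X a b => by
    rw [← cancel_mono i', MonObj.mul_comp _ _ i', Category.assoc, Category.assoc, Category.assoc, hfT,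
      ← Category.assoc, ← Category.assoc, ← Category.assoc, MonObj.mul_comp _ _ i, MonObj.mul_comp _ _ f]
  refine ⟨fT, hmon, hfT.symm, Gm.gmFn_injective ?_, ?_⟩
  · have h := congrArg (fun g => g ≫ f) (H.conjP (𝟙 T) (1 : Γ(T.left, ⊤)))
    have h' := H'.conjP fT ((cst v T : Γ(T.left, ⊤)) * 1 ^ q)
    simp only [MonObj.mul_comp _ _ f, Category.id_comp, hp T] at h
    rw [hfT] at h'
    have e := H'.P_pp_injective (mul_right_cancel (h'.symm.trans h))
    rw [_root_.mul_one, one_pow, _root_.mul_one, mul_comm] at e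
    rw [Gm.gmFn_pow]
    exact (cst v T).isUnit.mul_right_inj.1 e
  · rw [← cancel_mono i', Category.assoc, hfT]
    have h := hc (Red.Gm S) (Gm.isUnit_gmFn (𝟙 (Red.Gm S))).unit
    have e : Gm.gmPt (Gm.isUnit_gmFn (𝟙 (Red.Gm S))).unit = 𝟙 (Red.Gm S) :=
      (gmPt_eq (𝟙 _) (Gm.isUnit_gmFn _).unit_spec.symm).symm
    rw [← zpow_natCast, ← zpow_av hs' (𝟙 (Red.Gm S)) (Gm.isUnit_gmFn _).unit_spec.symm, zpow_natCast,
      Category.id_comp, Sys.H, e, Category.id_comp, Category.assoc] at h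
    exact h

end Groth.Agent.H82.BigCell
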