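import Groth.Agent.H82.BigCell.Field
import Mathlib.RingTheory.Localization.Away.Basic

/-!
# Homomorphisms from the additive group with a torus weight land in the root group
-/

set_option autoImplicit false
set_option linter.style.haveILetI false
set_option linter.unusedSectionVars false
universe u

open CategoryTheory MonoidalCategory CartesianMonoidalCategory MonObj GrpObj AlgebraicGeometry
open Groth.Agent.Lib.RedPts
open Groth.Agent.H82.RankOne (P P_eq P_add P_zero P_neg P_comp gmPt_eq gmPt_comp)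

namespace Groth.Agent.H82.BigCell

variable {S : Scheme.{u}}

/-- Morphisms into an object affine over the base are determined after an injective change of functions. -/
theorem eq_of_injective_over {X X' Y : Over S} [IsAffine X.left] [IsAffine X'.left] [IsAffineHom Y.hom]
    (c : X' ⟶ X) (hc : Function.Injective c.left.appTop) {a b : X ⟶ Y} (e : c ≫ a = c ≫ b) : a = b := by
  let Q := Limits.pullback Y.hom X.hom
  haveI : IsAffine Q := isAffine_of_isAffineHom (Limits.pullback.snd Y.hom X.hom)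
  let lft : (X ⟶ Y) → (X.left ⟶ Q) := fun g =>
    Limits.pullback.lift g.left (𝟙 X.left) (by rw [Over.w, Category.id_comp])
  have h : lft a = lft b := eq_of_injective_ringHom c hc _ _ (by
    apply Limits.pullback.hom_ext
    · simp only [lft, Category.assoc, Limits.pullback.lift_fst]
      exact congrArg Over.Hom.left e
    · simp only [lft, Category.assoc, Limits.pullback.lift_snd])
  apply Over.OverMorphism.ext
  have := congrArg (fun m => m ≫ Limits.pullback.fst Y.hom X.hom) h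
  simpa [lft, Limits.pullback.lift_fst] using this

/-- Polynomials are determined on the punctured line. -/
theorem away_injective (A : Type u) [CommRing A] :
    Function.Injective (algebraMap (Polynomial A) (Localization.Away (Polynomial.X : Polynomial A))) :=
  IsLocalization.injective _ (Submonoid.powers_le.2 (Polynomial.monic_X (R := A)).mem_nonZeroDivisors)

variable {G T : Over S} [GrpObj G] [GrpObj T] {i : T ⟶ G} {α : T ⟶ Red.Gm S} {pp pm : Red.Ga S ⟶ G}

/-- `p` has weight `n` for the character `α`, after faithfully flat covers. -/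
def HasWeight (i : T ⟶ G) (α : T ⟶ Red.Gm S) (p : Red.Ga S ⟶ G) (n : ℕ) : Prop :=
  ∀ (X : Over S) (u : Γ(X.left, ⊤)ˣ) (x : Γ(X.left, ⊤)),
    ∃ (X' : Over S) (c : X' ⟶ X) (t : X' ⟶ T), Epi c.left ∧ Surjective c.left ∧
      Red.gmFn (t ≫ α) = c.left.appTop (u : Γ(X.left, ⊤)) ∧
      P p (c.left.appTop (u : Γ(X.left, ⊤)) * c.left.appTop x) =
        (t ≫ i) ^ n * P p (c.left.appTop x) * ((t ≫ i) ^ n)⁻¹

namespace Hyp

variable [IsMonHom i] [IsMonHom α] [IsMonHom pp] [IsMonHom pm] (H : Hyp i α pp pm)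
include H

/-- Conjugation of the cell by a torus point. -/
theorem cell_conj {X : Over S} {f : X ⟶ G} {A C : Γ(X.left, ⊤)} {B : X ⟶ T} (t : X ⟶ T)
    (h : Cell i pp pm f A B C) :
    Cell i pp pm ((t ≫ i) * f * (t ≫ i)⁻¹) (Red.gmFn (t ≫ α⁻¹) * A) B (Red.gmFn (t ≫ α) * C) := by
  rw [Cell] at h ⊢
  have hB : (t ≫ i) * (B ≫ i) = (B ≫ i) * (t ≫ i) := by rw [← MonObj.mul_comp, H.comm, MonObj.mul_comp]
  rw [h]
  calc (t ≫ i) * (P pm A * (B ≫ i) * P pp C) * (t ≫ i)⁻¹
      = ((t ≫ i) * P pm A) * (B ≫ i) * P pp C * (t ≫ i)⁻¹ := by simp only [_root_.mul_assoc]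
    _ = P pm (Red.gmFn (t ≫ α⁻¹) * A) * ((t ≫ i) * (B ≫ i)) * P pp C * (t ≫ i)⁻¹ := by
        rw [H.conjM]; simp only [_root_.mul_assoc]
    _ = P pm (Red.gmFn (t ≫ α⁻¹) * A) * (B ≫ i) * ((t ≫ i) * P pp C) * (t ≫ i)⁻¹ := by
        rw [hB]; simp only [_root_.mul_assoc]
    _ = _ := by rw [H.conjP]; simp [_root_.mul_assoc]

theorem cell_one {X : Over S} : Cell i pp pm (1 : X ⟶ G) (0 : Γ(X.left, ⊤)) 1 0 := by
  simp [Cell, P_zero, MonObj.one_comp]

section weight

variable {p : Red.Ga S ⟶ G} [IsMonHom p] {n : ℕ}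

theorem gmFn_pow_inv {X : Over S} (t : X ⟶ T) (u : Γ(X.left, ⊤)ˣ) (h : Red.gmFn (t ≫ α) = u) :
    Red.gmFn ((t ^ n) ≫ α) = ((u ^ n : Γ(X.left, ⊤)ˣ) : Γ(X.left, ⊤)) ∧
      Red.gmFn ((t ^ n) ≫ α⁻¹) = ((↑(u ^ n)⁻¹ : Γ(X.left, ⊤))) := by
  have h1 : Red.gmFn ((t ^ n) ≫ α) = ((u ^ n : Γ(X.left, ⊤)ˣ) : Γ(X.left, ⊤)) := by
    rw [MonObj.pow_comp _ _ α, Gm.gmFn_pow, h, Units.val_pow_eq_pow_val]
  refine ⟨h1, ?_⟩
  rw [GrpObj.comp_inv]
  exact RankOne.Sys.gmFn_inv_of _ _ h1

theorem weight_cell (hp : HasWeight i α p n) {X : Over S} (u : Γ(X.left, ⊤)ˣ) (x : Γ(X.left, ⊤))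
    (h : ∃ A B C, Cell i pp pm (P p x) A B C) :
    ∃ A B C, Cell i pp pm (P p ((u : Γ(X.left, ⊤)) * x)) A B C := by
  obtain ⟨A, B, C, h⟩ := h
  obtain ⟨X', c, t, -, hs, ht, he⟩ := hp X u x
  refine H.cell_of_surjective c ?_
  rw [P_comp, map_mul, he, ← P_comp, ← MonObj.pow_comp _ _ i]
  exact ⟨_, _, _, H.cell_conj (t ^ n) (cell_comp c h)⟩

theorem weight_eq (hp : HasWeight i α p n) {X : Over S} (u : Γ(X.left, ⊤)ˣ) {x A C A' C' : Γ(X.left, ⊤)}
    {B B' : X ⟶ T} (h : Cell i pp pm (P p x) A B C)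
    (h' : Cell i pp pm (P p ((u : Γ(X.left, ⊤)) * x)) A' B' C') :
    (u : Γ(X.left, ⊤)) ^ n * A' = A ∧ B' = B ∧ C' = (u : Γ(X.left, ⊤)) ^ n * C := by
  obtain ⟨X', c, t, hc, -, ht, he⟩ := hp X u x
  have h2 := cell_comp c h'
  rw [P_comp, map_mul, he, ← P_comp, ← MonObj.pow_comp _ _ i] at h2
  obtain ⟨e1, e2, e3⟩ := H.unique h2 (H.cell_conj (t ^ n) (cell_comp c h))
  obtain ⟨k1, k2⟩ := H.gmFn_pow_inv (n := n) t (Units.map c.left.appTop.hom.toMonoidHom u) ht
  rw [k2] at e1
  rw [k1] at e3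
  refine ⟨fn_eq_of_epi hc ?_, RankOne.eq_of_epi hc e2, fn_eq_of_epi hc ?_⟩
  · rw [map_mul, map_pow, e1, ← _root_.mul_assoc]
    have := (Units.map c.left.appTop.hom.toMonoidHom u ^ n).mul_inv
    rw [Units.val_pow_eq_pow_val] at this
    exact (congrArg (· * _) this).trans (_root_.one_mul _)
  · rw [e3, map_mul, map_pow, Units.val_pow_eq_pow_val]
    rfl

/-- Everything lies in the cell. -/
theorem weight_mem (hp : HasWeight i α p n) {X : Over S} (x : Γ(X.left, ⊤)) :
    ∃ A B C, Cell i pp pm (P p x) A B C := by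
  rw [H.exists_cell_iff]
  rintro _ ⟨q, rfl⟩
  suffices h : ∃ A B C, Cell i pp pm (ptHom X q ≫ P p x) A B C by
    obtain ⟨q', hq'⟩ := mem_range_ptHom X q
    rw [← hq']
    exact (H.exists_cell_iff _).1 h ⟨q', rfl⟩
  rw [P_comp]
  generalize (ptHom X q).left.appTop x = x'
  haveI : IsAffine (ptObj X q).left := inferInstanceAs (IsAffine (Spec (X.left.residueField q)))
  have hk := isField_ptObj X q
  revert x' hk
  generalize ptObj X q = Y at *
  intro x' hk
  letI := hk.toField
  let k := Γ(Y.left, ⊤)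
  by_cases hx : x' = 0
  · subst hx
    exact ⟨0, 1, 0, by simpa [P_zero] using H.cell_one⟩
  obtain ⟨u, hu⟩ := FEq.isUnit_of_ne_zero Y hk hx
  suffices h1 : ∃ A B C, Cell i pp pm (P p (1 : k)) A B C by
    have := H.weight_cell hp u 1 h1
    rwa [_root_.mul_one, hu] at this
  -- the generic point of the line
  let φC : k →+* Polynomial k := Polynomial.C
  let Y₁ : Over S := ext Y φC
  let v : Γ(Y₁.left, ⊤) := fn Y φC Polynomial.X
  let z : ext Y (RingHom.id k) ⟶ Y₁ :=
    extMap φC (RingHom.id k) (𝟙 Y) (Polynomial.evalRingHom 0) (RingHom.ext fun a => by simp [φC]; rfl)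
  let K := FractionRing (Polynomial k)
  let φK : k →+* K := (algebraMap (Polynomial k) K).comp Polynomial.C
  let j : ext Y φK ⟶ Y₁ := extMap φC φK (𝟙 Y) (algebraMap (Polynomial k) K) rfl
  haveI := H.openImm
  let O : Y₁.left.Opens := (P p v).left ⁻¹ᵁ (Φ i pp pm).left.opensRange
  have hz : Set.range z.left ⊆ (O : Set Y₁.left) := by
    have h0 : ∃ A B C, Cell i pp pm (z ≫ P p v) A B C := by
      rw [P_comp, extMap_fn, Polynomial.coe_evalRingHom, Polynomial.eval_X, map_zero, P_zero]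
      exact ⟨0, 1, 0, H.cell_one⟩
    rintro _ ⟨r, rfl⟩
    have := (H.exists_cell_iff _).1 h0 ⟨r, rfl⟩
    exact this
  have hj : Set.range (j ≫ P p v).left ⊆ Set.range (Φ i pp pm).left := by
    rintro _ ⟨r, rfl⟩
    have hbot : j.left r = (⟨⊥, Ideal.bot_prime⟩ : PrimeSpectrum (Polynomial k)) := by
      refine PrimeSpectrum.ext ?_
      change (r : PrimeSpectrum K).asIdeal.comap (algebraMap (Polynomial k) K) = ⊥
      rw [Ideal.eq_bot_of_prime (r : PrimeSpectrum K).asIdeal, ← RingHom.ker_eq_comap_bot]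
      exact (RingHom.injective_iff_ker_eq_bot _).1 (IsFractionRing.injective (Polynomial k) K)
    let r0 : ↥(ext Y (RingHom.id k)).left := (IsLocalRing.closedPoint k : PrimeSpectrum k)
    have hmem : j.left r ∈ O := by
      refine Specializes.mem_open ?_ O.isOpen (hz ⟨r0, rfl⟩)
      rw [hbot]
      exact (PrimeSpectrum.le_iff_specializes _ _).1 bot_le
    exact hmem
  have h2 := (H.exists_cell_iff _).2 hj
  rw [P_comp, extMap_fn] at h2
  obtain ⟨w, hw⟩ : IsUnit (fn Y φK (algebraMap (Polynomial k) K Polynomial.X)) :=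
    (isUnit_iff_ne_zero.2 ((map_ne_zero_iff _ (IsFractionRing.injective (Polynomial k) K)).2
      Polynomial.X_ne_zero)).map (fn Y φK)
  have h3 := H.weight_cell hp w⁻¹ _ h2
  rw [← hw, Units.inv_mul] at h3
  haveI : Surjective (extHom Y φK).left := surjective_extHom φK
    (Function.surjective_to_subsingleton (β := PrimeSpectrum k) _)
  refine H.cell_of_surjective (extHom Y φK) ?_
  rwa [P_comp, map_one]

/-- The last coordinate of `p(1)`. -/
noncomputable def wCoef (hp : HasWeight i α p n) (X : Over S) : Γ(X.left, ⊤) :=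
  (H.weight_mem hp (1 : Γ(X.left, ⊤))).choose_spec.choose_spec.choose

theorem wCoef_spec (hp : HasWeight i α p n) (X : Over S) :
    ∃ A B, Cell i pp pm (P p (1 : Γ(X.left, ⊤))) A B (H.wCoef hp X) :=
  ⟨_, _, (H.weight_mem hp (1 : Γ(X.left, ⊤))).choose_spec.choose_spec.choose_spec⟩

theorem wCoef_comp (hp : HasWeight i α p n) {X X' : Over S} (c : X' ⟶ X) :
    c.left.appTop (H.wCoef hp X) = H.wCoef hp X' := by
  obtain ⟨A, B, h⟩ := H.wCoef_spec hp X
  obtain ⟨A', B', h'⟩ := H.wCoef_spec hp X'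
  have h2 := cell_comp c h
  rw [P_comp, map_one] at h2
  exact (H.unique h2 h').2.2

theorem weight_formula_affine [IsAffineHom T.hom] (hp : HasWeight i α p n) (X : Over S) [IsAffine X.left]
    (x : Γ(X.left, ⊤)) : P p x = P pp (H.wCoef hp X * x ^ n) := by
  let R := Γ(X.left, ⊤)
  let φC : R →+* Polynomial R := Polynomial.C
  let L := Localization.Away (Polynomial.X : Polynomial R)
  let φL : R →+* L := (algebraMap (Polynomial R) L).comp Polynomial.C
  let j : ext X φL ⟶ ext X φC := extMap φC φL (𝟙 X) (algebraMap (Polynomial R) L) rfl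
  have hj : Function.Injective j.left.appTop := fun a a' e => by
    obtain ⟨a₀, rfl⟩ := (fn X φC).surjective a
    obtain ⟨a₁, rfl⟩ := (fn X φC).surjective a'
    rw [extMap_fn, extMap_fn] at e
    exact congrArg _ (away_injective R ((fn X φL).injective e))
  let v : Γ((ext X φC).left, ⊤) := fn X φC Polynomial.X
  let z0 : ext X (RingHom.id R) ⟶ ext X φC :=
    extMap φC (RingHom.id R) (𝟙 X) (Polynomial.evalRingHom 0) (RingHom.ext fun a => by simp [φC]; rfl)
  obtain ⟨A, B, C, h⟩ := H.weight_mem hp v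
  obtain ⟨A₁, B₁, h1⟩ := H.wCoef_spec hp (ext X φC)
  obtain ⟨w, hw⟩ : IsUnit (j.left.appTop v) := by
    rw [extMap_fn]
    exact (IsLocalization.Away.algebraMap_isUnit (S := L) (Polynomial.X : Polynomial R)).map (fn X φL)
  have hv := cell_comp j h
  have h1' := cell_comp j h1
  rw [P_comp, map_one] at h1'
  rw [P_comp, ← hw, ← _root_.mul_one (w : Γ((ext X φL).left, ⊤))] at hv
  obtain ⟨eA, eB, eC⟩ := H.weight_eq hp w h1' hv
  rw [hw, ← map_pow, ← map_mul] at eA eC
  have eA' := hj eA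
  have eC' := hj eC
  have eB' : B = B₁ := eq_of_injective_over j hj eB
  have h0 := cell_comp z0 h
  have hv0 : z0.left.appTop v = 0 := by
    rw [extMap_fn, Polynomial.coe_evalRingHom, Polynomial.eval_X, map_zero]
  rw [P_comp, hv0, P_zero] at h0
  obtain ⟨fA, fB, -⟩ := H.unique h0 H.cell_one
  -- the first coordinate of `p(1)` vanishes
  obtain ⟨A₂, B₂, h2⟩ := H.wCoef_spec hp X
  have h2' := cell_comp (extHom X φC) h2
  rw [P_comp, map_one] at h2'
  obtain ⟨gA, gB, -⟩ := H.unique h1 h2'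
  have hA2 : A₂ = 0 := by
    obtain ⟨a, ha⟩ := (fn X φC).surjective A
    rw [← ha, gA, extHom_fn, ← map_pow, ← map_mul] at eA'
    have e := (fn X φC).injective eA'
    rw [← ha, extMap_fn, Polynomial.coe_evalRingHom, ← map_zero (fn X (RingHom.id R))] at fA
    have e0 := (fn X (RingHom.id R)).injective fA
    have e1 := congrArg (Polynomial.eval 0) e
    simp [φC, e0] at e1
    exact e1.symm
  have hB2 : B₂ = 1 := by
    have e : z0 ≫ extHom X φC ≫ B₂ = 1 := by rw [← gB, ← eB', fB]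
    rw [← Category.assoc, extMap_extHom, Category.comp_id] at e
    have hid : Epi (extHom X (RingHom.id R)).left := by
      have : extHom X (RingHom.id R) = Over.homMk X.left.isoSpec.inv := by
        ext; change Spec.map (CommRingCat.ofHom (RingHom.id R)) ≫ _ = _; simp
      rw [this]; simp only [Over.homMk_left]; infer_instance
    exact RankOne.eq_of_epi hid (e.trans (MonObj.comp_one _).symm)
  -- evaluation
  obtain ⟨d, hd, hdv⟩ := exists_toExt φC (𝟙 X) (Polynomial.evalRingHom x) (RingHom.ext fun a => by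
    simp [φC])
  have hf := cell_comp d h
  have hdx : d.left.appTop v = x := by rw [hdv]; simp
  rw [P_comp, hdx] at hf
  have eA2 : d.left.appTop A = 0 := by
    obtain ⟨a, ha⟩ := (fn X φC).surjective A
    rw [gA, hA2, map_zero, ← ha, ← map_pow, ← map_mul, ← map_zero (fn X φC)] at eA'
    have e := (fn X φC).injective eA'
    rw [((Polynomial.monic_X (R := R)).pow n).mul_right_eq_zero_iff] at e
    rw [← ha, e, map_zero, map_zero]
  rw [eA2, eB', gB, hB2, MonObj.comp_one, MonObj.comp_one, eC', map_mul, map_pow, hdx, H.wCoef_comp hp,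
    mul_comm] at hf
  simpa [Cell, P_zero, MonObj.one_comp] using hf

theorem weight_formula [IsAffineHom T.hom] (hp : HasWeight i α p n) {X : Over S} (x : Γ(X.left, ⊤)) :
    P p x = P pp (H.wCoef hp X * x ^ n) := by
  refine pt_ext_affine fun q => ?_
  rw [P_comp, P_comp, map_mul, map_pow, H.wCoef_comp hp]
  haveI : IsAffine (piece X q).left := inferInstanceAs (IsAffine (X.left.affineCover.X q))
  exact H.weight_formula_affine hp _ _

end weight

theorem P_pp_injective {X : Over S} {a b : Γ(X.left, ⊤)} (h : P pp a = P pp b) : a = b := by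
  have h1 : Cell i pp pm (P pp a) 0 1 a := by simp [Cell, P_zero, MonObj.one_comp]
  have h2 : Cell i pp pm (P pp a) 0 1 b := by simp [Cell, P_zero, MonObj.one_comp, h]
  exact (H.unique h1 h2).2.2

end Hyp

end Groth.Agent.H82.BigCell
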