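import Groth.Agent.H82.RankOne2.Centralizer

/-!
# Elements inverting a multiple of the coroot
-/

set_option autoImplicit false
set_option linter.style.haveILetI false
set_option linter.unusedSectionVars false
universe u

open CategoryTheory MonoidalCategory CartesianMonoidalCategory MonObj GrpObj AlgebraicGeometry
open Groth.Agent.Lib.RedPts
open Groth.Agent.H82.RankOne (P P_eq P_add P_zero P_neg P_comp gmPt_eq Sys)

namespace Groth.Agent.H82.BigCell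

variable {S : Scheme.{u}} {G T : Over S} [GrpObj G] [GrpObj T]
  {i : T ⟶ G} {α : T ⟶ Red.Gm S} {pp pm : Red.Ga S ⟶ G} {av : Red.Gm S ⟶ T}
  [IsMonHom i] [IsMonHom α] [IsMonHom pp] [IsMonHom pm]

namespace Hyp

variable (H : Hyp i α pp pm) (hs : Sys i α pp pm av)
include H hs

theorem w₀_not_mem_torus {X : Over S} (hX : Nontrivial Γ(X.left, ⊤)) (t : X ⟶ T) :
    w₀ pp pm X ≠ t ≫ i := by
  intro h
  have h1 : Cell i pp pm (P pm (-1 : Γ(X.left, ⊤))) (-1) 1 0 := by simp [Cell, P_zero, MonObj.one_comp]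
  have h2 : Cell i pp pm (P pm (-1 : Γ(X.left, ⊤))) 0 t (Red.gmFn (t ≫ α⁻¹) * -1 + -1) := by
    have e : P pm (-1 : Γ(X.left, ⊤)) = P pp (-1) * (t ≫ i) * P pp (-1) := by
      rw [← h, w₀, Sys.W, Units.val_one, inv_one, Units.val_one, P_neg pp (1 : Γ(X.left, ⊤))]
      simp [_root_.mul_assoc]
    rw [Cell, P_zero, _root_.one_mul, e, H.P_mul_B, P_add, _root_.mul_assoc]
  have e := (H.unique h1 h2).1
  exact one_ne_zero (α := Γ(X.left, ⊤)) (neg_eq_zero.1 e)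

/-- An element inverting a multiple of the coroot is `w₀` times a torus point. -/
theorem exists_eq_w₀_mul (hG : Red.IsReductive G) (n : ℤ) (hn : n ≠ 0) [IsMonHom av] (w : 𝟙_ (Over S) ⟶ G)
    (hw : ∀ (X : Over S) (z : X ⟶ Red.Gm S),
      (toUnit X ≫ w) * (((z ≫ av) ^ n) ≫ i) * (toUnit X ≫ w)⁻¹ = ((((z ≫ av) ^ n) ≫ i))⁻¹) :
    ∃ t : 𝟙_ (Over S) ⟶ T, w = w₀ pp pm (𝟙_ (Over S)) * (t ≫ i) := by
  have key : ∀ (X : Over S) (u : Γ(X.left, ⊤)ˣ),
      (toUnit X ≫ w) * Sys.H i av (u ^ n.natAbs) * (toUnit X ≫ w)⁻¹ = (Sys.H i av (u ^ n.natAbs))⁻¹ := by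
    intro X u
    rcases Int.natAbs_eq n with h | h
    · have hh := hw X (Gm.gmPt u)
      rw [zpow_av hs _ (Gm.gmFn_gmPt u), h, zpow_natCast] at hh
      exact hh
    · have hh := hw X (Gm.gmPt u⁻¹)
      rw [zpow_av hs _ (Gm.gmFn_gmPt u⁻¹), h, zpow_neg, zpow_natCast, inv_pow, _root_.inv_inv] at hh
      exact hh
  obtain ⟨t, ht⟩ := H.mem_torus_of_comm hs hG n.natAbs (Int.natAbs_pos.2 hn)
    ((w₀ pp pm (𝟙_ (Over S)))⁻¹ * w) fun X c u => by
      rw [MonObj.comp_mul, GrpObj.comp_inv, w₀_comp, toUnit_unique c (toUnit X)]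
      have h1 := key X u
      rw [mul_inv_eq_iff_eq_mul] at h1
      rw [_root_.mul_assoc, h1, ← _root_.mul_assoc, ← _root_.mul_assoc]
      congr 1
      rw [inv_mul_eq_iff_eq_mul, ← _root_.mul_assoc, w₀, hs.W_mul_H]
      group
  exact ⟨t, by rw [ht, mul_inv_cancel_left]⟩

theorem conj_eq_of_mul (w : 𝟙_ (Over S) ⟶ G) (t : 𝟙_ (Over S) ⟶ T)
    (hwt : w = w₀ pp pm (𝟙_ (Over S)) * (t ≫ i)) {X : Over S} (x : X ⟶ T) :
    (toUnit X ≫ w) * (x ≫ i) * (toUnit X ≫ w)⁻¹ = (x ≫ α ≫ av ≫ i)⁻¹ * (x ≫ i) := by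
  rw [hwt, MonObj.comp_mul, w₀_comp, ← Category.assoc, _root_.mul_inv_rev]
  have hx : ((toUnit X ≫ t) ≫ i) * (x ≫ i) * ((toUnit X ≫ t) ≫ i)⁻¹ = x ≫ i := by
    rw [← MonObj.mul_comp, H.comm, MonObj.mul_comp, mul_inv_cancel_right]
  rw [← hs.W_conj x 1]
  conv_rhs => rw [← hx]
  simp only [w₀, _root_.mul_assoc]

end Hyp

end Groth.Agent.H82.BigCell
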